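import Mathlib
import Cfsg.Agent.Gp.Main
import Cfsg.Agent.GsD.SB
import Cfsg.Agent.Transfer.Focal
import Cfsg.Agent.Block.ZStar

/-! Maximal members of a strongly closed set, transfer lemmas and the chain lemma. -/

set_option autoImplicit false
set_option linter.unusedSectionVars false
set_option linter.style.haveILetI false

namespace Cfsg.Agent.Hq

open Subgroup Cfsg.Agent.GW Cfsg.Agent.LocalEven Cfsg.Agent.BG Cfsg.Agent.Gs Cfsg.Agent.Gp
open scoped commutatorElement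

universe u

variable {G : Type u} [Group G] [Finite G] {X Y : Set G} {A B P M T K : Subgroup G} {x y g : G}

local instance fact2A : Fact (Nat.Prime 2) := ⟨Nat.prime_two⟩

/-- `x` is a 2-element. -/
abbrev Te (x : G) : Prop := IsPGroup 2 (zpowers x)

theorem Te.of_mem (hP : IsPGroup 2 P) (hx : x ∈ P) : Te x := hP.to_le (zpowers_le.2 hx)

theorem Te.conj (h : Te x) (g : G) : Te (g * x * g⁻¹) := by
  rw [Te, ← cj_zpowers]; exact isPGroup_cj g h

theorem Te.map {H : Type*} [Group H] (h : Te x) (f : G →* H) : IsPGroup 2 (zpowers (f x)) := by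
  rw [← MonoidHom.map_zpowers]; exact IsPGroup.map h f

theorem Te.sup (h : Te x) (hP : IsPGroup 2 P) (hn : x ∈ 𝐍(P)) : IsPGroup 2 (P ⊔ zpowers x : Subgroup G) :=
  hP.to_sup_of_normal_left' h (zpowers_le.2 hn)

theorem Te.exists_conj (h : Te x) (hT : IsSylowIn 2 T M) (hx : x ∈ M) : ∃ m ∈ M, m * x * m⁻¹ ∈ T :=
  let ⟨m, hm, e⟩ := hT.exists_cj_le h (zpowers_le.2 hx)
  ⟨m, hm, e (conj_mem_cj (mem_zpowers x))⟩

/-- The intersection of `X` with a Sylow 2-subgroup. -/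
structure Mx (X : Set G) (A : Subgroup G) : Prop where
  two : IsPGroup 2 A
  sub : ∀ a ∈ A, a ∈ X
  max : ∀ P : Subgroup G, IsPGroup 2 P → A ≤ P → ∀ x ∈ X, x ∈ P → x ∈ A

theorem mx_sub (h : CS X) (hT : IsSylowIn 2 T ⊤) : Mx X (h.sub hT.pgrp) := by
  refine ⟨hT.pgrp.to_le (h.sub_le _), fun _ ha => ha.1, fun P hP hle x hx hxP => ?_⟩
  obtain ⟨g, -, e⟩ := hT.exists_cj_le hP le_top
  have k : ∀ y ∈ X, y ∈ P → g * y * g⁻¹ ∈ h.sub hT.pgrp := fun y a b => ⟨h.conj y a g, e (conj_mem_cj b)⟩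
  exact (mem_normalizer_iff.1 (mem_normalizer_fintype (S := (h.sub hT.pgrp : Set G))
    fun y hy => k y hy.1 (hle hy)) _).2 (k x hx hxP)

namespace Mx

theorem cj (h : Mx X A) (hX : CS X) (g : G) : Mx X (cj g A) := by
  refine ⟨isPGroup_cj g h.two, fun a ha => ?_, fun P hP hle x hx hxP => ?_⟩
  · obtain ⟨y, hy, rfl⟩ := mem_cj'.1 ha
    exact hX.conj y (h.sub y hy) g
  · rw [← inv_inv g, mem_cj_inv]
    exact h.max _ (isPGroup_cj g⁻¹ hP) (cj_le_iff.1 hle) _ (hX.conj x hx _) (conj_mem_cj hxP)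

theorem norm (h : Mx X A) (hX : CS X) (hP : IsPGroup 2 P) (hle : A ≤ P) : P ≤ 𝐍(A) := fun g hg =>
  mem_normalizer_fintype fun a ha => h.max P hP hle _ (hX.conj a (h.sub a ha) g)
    (mul_mem (mul_mem hg (hle ha)) (inv_mem hg))

theorem mem (h : Mx X A) (hX : CS X) (hx : x ∈ X) (hn : x ∈ 𝐍(A)) : x ∈ A :=
  h.max _ (Te.sup (hX.two x hx) h.two hn) le_sup_left x hx (mem_sup_right (mem_zpowers x))

theorem eq (h : Mx X A) (h' : Mx X B) (hle : A ≤ B) : A = B :=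
  le_antisymm hle fun b hb => h.max B h'.two hle b (h'.sub b hb) hb

theorem exists_in (h : Mx X A) (hX : CS X) (hM : A ≤ M) (hP : IsPGroup 2 P) (hle : P ≤ M) :
    ∃ m ∈ M, P ≤ 𝐍(LocalEven.cj m A) := by
  obtain ⟨T, hT, hAT⟩ := exists_isSylowIn_le h.two hM
  obtain ⟨m, hm, e⟩ := hT.exists_le_cj hP hle
  exact ⟨m, hm, e.trans ((h.cj hX m).norm hX (isPGroup_cj m hT.pgrp) (cj_mono m hAT))⟩

theorem exists_conj (h : Mx X A) (hX : CS X) (hx : x ∈ X) : ∃ g, g * x * g⁻¹ ∈ A := by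
  obtain ⟨m, -, e⟩ := h.exists_in hX le_top (hX.two x hx) le_top
  exact ⟨m⁻¹, by simpa using mem_cj.1 ((h.cj hX m).mem hX hx (e (mem_zpowers x)))⟩

theorem subgroupOf (h : Mx X A) (hM : A ≤ M) : Mx (M.subtype ⁻¹' X) (A.subgroupOf M) :=
  ⟨isPGroup_subgroupOf h.two, fun a ha => h.sub a ha, fun _ hP hle x hx hxP =>
    h.max _ (hP.map M.subtype) (fun a ha => ⟨⟨a, hM ha⟩, hle ha, rfl⟩) x hx ⟨x, hxP, rfl⟩⟩

end Mx

theorem exists_mx (h : CS X) (hP : IsPGroup 2 P) : ∃ A, Mx X A ∧ P ≤ 𝐍(A) := by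
  obtain ⟨T, hT, hle⟩ := exists_isSylowIn_le hP le_top
  exact ⟨_, mx_sub h hT, hle.trans (le_normalizer.trans (h.norm_sub _))⟩

theorem eq_of_odd {H : Type*} [Group H] {f : G →* H} (hk : Odd (Nat.card f.ker)) (hP : IsPGroup 2 P)
    (hx : x ∈ P) (hy : y ∈ P) (e : f x = f y) : x = y := by
  have : x⁻¹ * y ∈ P ⊓ f.ker :=
    mem_inf.2 ⟨mul_mem (inv_mem hx) hy, by rw [MonoidHom.mem_ker, map_mul, map_inv, e, inv_mul_cancel]⟩
  rwa [inf_eq_bot_of_odd hP hk, mem_bot, inv_mul_eq_one] at this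

theorem mem_of_odd {H : Type*} [Group H] [Finite H] (h : CS X) {f : G →* H} (hk : Odd (Nat.card f.ker))
    (hx : Te x) (e : f x ∈ f '' X) : x ∈ X := by
  obtain ⟨y, hy, e⟩ := e
  obtain ⟨P, hP, hP'⟩ := exists_lift f (hx.map f)
  obtain ⟨g, g1, g2⟩ := hP' x hx (mem_zpowers _)
  obtain ⟨k, k1, k2⟩ := hP' y (h.two y hy) (e ▸ mem_zpowers _)
  exact h.conj' g (eq_of_odd hk hP g1 k1 (by rw [g2, k2, e]) ▸ h.conj y hy k)

theorem odd_core : Odd (Nat.card (QuotientGroup.mk' (pPrimeCore 2 G)).ker) := by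
  rw [QuotientGroup.ker_mk']; exact Inv.odd_card_oddCore

theorem closure_red (X : Set G) {H : Type*} [Group H] {f : closure X →* H} (hf : Function.Surjective f) :
    closure (f '' ((closure X).subtype ⁻¹' X)) = ⊤ := by
  rw [← MonoidHom.map_closure, show closure ((closure X).subtype ⁻¹' X) = ⊤ from closure_closure_coe_preimage]
  exact map_top_of_surjective _ hf

/-- transfer -/
theorem foc (h : CS X) (hc : closure X = ⊤) (hT : IsSylowIn 2 T ⊤) (hK : ∀ x ∈ X, x ∈ T → x ∈ K)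
    (hf : ∀ x ∈ T, ∀ g : G, g * x * g⁻¹ ∈ T → x⁻¹ * (g * x * g⁻¹) ∈ K) : T ≤ K := by
  obtain ⟨S, rfl⟩ := hT.exists_sylow_top
  have h1 : closure X ≤ _root_.commutator G ⊔ h.sub hT.pgrp := (closure_le _).2 fun x hx => by
    obtain ⟨g, -, e⟩ := h.exists_conj hT hx (mem_top x)
    have := mul_mem (mem_sup_left (commutator_mem_commutator (mem_top x) (mem_top g)) :
      _ ∈ _root_.commutator G ⊔ h.sub hT.pgrp) (mem_sup_right (show g * x * g⁻¹ ∈ _ from ⟨h.conj x hx g, e⟩))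
    simpa [commutatorElement_def, mul_assoc] using this
  intro t ht
  obtain ⟨c, hc', s, hs, rfl⟩ := mem_sup_of_normal_left.1 (h1 (hc ▸ mem_top t))
  refine mul_mem (Transfer.focalSubgroup_le_of_forall hf ?_) (hK s hs.1 hs.2)
  rw [← commutator_inf_eq_focalSubgroup]
  exact ⟨hc', (mul_mem_cancel_right hs.2).1 ht⟩

theorem fin (h : CS X) (hc : closure X = ⊤) (hT : IsSylowIn 2 T ⊤)
    (hs : ∀ t ∈ T, ∃ s ∈ X, s ∈ T ∧ ∀ g, g * (s⁻¹ * t) * g⁻¹ * (s⁻¹ * t)⁻¹ ∈ h.sub hT.pgrp) (hx : Te x) :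
    x ∈ X := by
  obtain ⟨g, -, e⟩ := hx.exists_conj hT (mem_top x)
  refine h.conj' g (foc (K := h.sub hT.pgrp) h hc hT (fun x a b => ⟨a, b⟩) (fun t ht g hg => ?_) e).1
  obtain ⟨s, s1, s2, s3⟩ := hs t ht
  have h1 : g * s * g⁻¹ ∈ h.sub hT.pgrp := ⟨h.conj s s1 g, by
    have := mul_mem (mul_mem hg (inv_mem (mul_mem (inv_mem s2) ht))) (inv_mem (s3 g).2)
    convert this using 1; group⟩
  have := inv_conj_mem_of_mem_normalizer (h.norm_sub hT.pgrp (le_normalizer (mul_mem (inv_mem s2) ht)))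
    (mul_mem (mul_mem (inv_mem (show s ∈ h.sub hT.pgrp from ⟨s1, s2⟩)) h1) (s3 g))
  convert this using 1; group

/-- `Y` is cyclic of index at most 2 in `X` inside every 2-subgroup. -/
structure Ch (X Y : Set G) : Prop where
  l : CS X
  r : CS Y
  le : Y ⊆ X
  cyc : ∀ P : Subgroup G, IsPGroup 2 P → ∃ c, ∀ y ∈ Y, y ∈ P → y ∈ zpowers c
  idx : ∀ P : Subgroup G, IsPGroup 2 P → ∀ x ∈ X, ∀ y ∈ X, x ∈ P → y ∈ P → x ∈ Y ∨ y ∈ Y ∨ x * y ∈ Y

theorem Ch.image (h : Ch X Y) {H : Type u} [Group H] [Finite H] {f : G →* H} (hf : Function.Surjective f) :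
    Ch (f '' X) (f '' Y) := by
  refine ⟨h.l.image hf, h.r.image hf, Set.image_mono h.le, fun Q hQ => ?_, ?_⟩
  · obtain ⟨P, hP, hP'⟩ := exists_lift f hQ
    obtain ⟨c, hc⟩ := h.cyc P hP
    refine ⟨f c, ?_⟩
    rintro _ ⟨y, hy, rfl⟩ a
    obtain ⟨g, g1, g2⟩ := hP' y (h.r.two y hy) a
    rw [← g2, ← MonoidHom.map_zpowers]
    exact mem_map_of_mem f (hc _ (h.r.conj y hy g) g1)
  · rintro Q hQ _ ⟨x, hx, rfl⟩ _ ⟨y, hy, rfl⟩ a b
    obtain ⟨P, hP, hP'⟩ := exists_lift f hQ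
    obtain ⟨g, g1, g2⟩ := hP' x (h.l.two x hx) a
    obtain ⟨k, k1, k2⟩ := hP' y (h.l.two y hy) b
    rw [← g2, ← k2, ← map_mul]
    exact (h.idx P hP _ (h.l.conj x hx g) _ (h.l.conj y hy k) g1 k1).imp (Set.mem_image_of_mem f)
      (Or.imp (Set.mem_image_of_mem f) (Set.mem_image_of_mem f))

theorem eq_of_zpowers {c : G} (hx : x ∈ zpowers c) (hy : y ∈ zpowers c) (x2 : orderOf x = 2) (y2 : orderOf y = 2) :
    x = y := by
  classical
  haveI := Fintype.ofFinite (zpowers c)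
  have h6 := IsCyclic.card_orderOf_eq_totient (α := zpowers c) (d := 2) (by
    rw [← Nat.card_eq_fintype_card, ← x2]; exact orderOf_dvd_natCard _ hx)
  exact congrArg Subtype.val (Finset.card_le_one.1 h6.le ⟨x, hx⟩ (by
    simp only [Finset.mem_filter, Finset.mem_univ, true_and, ← orderOf_coe]; exact x2) ⟨y, hy⟩ (by
    simp only [Finset.mem_filter, Finset.mem_univ, true_and, ← orderOf_coe]; exact y2))

theorem isolated {z : G} (z1 : z ≠ 1) (z2 : z * z = 1) (h : ∀ P : Subgroup G, IsPGroup 2 P → z ∈ P →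
    ∀ g : G, g * z * g⁻¹ ∈ P → g * z * g⁻¹ = z) : IsIsolatedInvolution z :=
  ⟨two_of_sq z2 z1, fun g hg => h _ (Te.sup (pgroup_zp (conj_sq z2 g)) (pgroup_zp z2)
    (cz_le_normalizer_zpowers z (mem_cz.2 hg.symm.eq))) (mem_sup_left (mem_zpowers _)) g
    (mem_sup_right (mem_zpowers _))⟩

theorem Ch.two (G : Type u) [Group G] [Finite G] : ∀ X Y : Set G, Ch X Y → pPrimeCore 2 G = ⊥ →
    IsPGroup 2 (closure X) := by
  refine Core.induction_on_card (P := fun G _ _ => ∀ X Y : Set G, Ch X Y → pPrimeCore 2 G = ⊥ →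
    IsPGroup 2 (closure X)) ?_ G
  intro G _ _ ih X Y h hO
  by_cases h0 : ∀ x ∈ X, x = 1
  · rw [closure_eq_bot_iff.2 h0]; exact IsPGroup.of_bot
  obtain ⟨z, hz⟩ : ∃ z : G, IsIsolatedInvolution z := by
    by_cases h1 : ∀ y ∈ Y, y = 1
    · push Not at h0
      obtain ⟨x, hx, x1⟩ := h0
      obtain ⟨z, hz, -, z1, z2⟩ := h.l.exists_inv hx x1
      refine ⟨z, isolated z1 z2 fun P hP a g b => ?_⟩
      rcases h.idx P hP _ (h.l.conj z hz g) z hz b a with e | e | e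
      · exact absurd (h1 _ e) (conj_ne_one z1 g)
      · exact absurd (h1 _ e) z1
      · rw [eq_inv_of_mul_eq_one_left (h1 _ e), inv_of_sq z2]
    · push Not at h1
      obtain ⟨x, hx, x1⟩ := h1
      obtain ⟨z, hz, -, z1, z2⟩ := h.r.exists_inv hx x1
      refine ⟨z, isolated z1 z2 fun P hP a g b => ?_⟩
      obtain ⟨c, hc⟩ := h.cyc P hP
      exact eq_of_zpowers (hc _ (h.r.conj z hz g) b) (hc z hz a) (two_of_sq (conj_sq z2 g) (conj_ne_one z1 g))
        (two_of_sq z2 z1)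
  have hc : zpowers z ≤ center G := zpowers_le.2 (Block.zstar_center hz hO)
  haveI : (zpowers z).Normal := ⟨fun a ha g => by rwa [mem_center_iff.1 (hc ha) g, mul_inv_cancel_right]⟩
  have h2 := pgroup_zp (sq_of_two hz.1)
  have := ih _ (Core.card_quotient_lt (zpowers z) (by simpa using ne_one_of_orderOf_eq hz.1)) _ _
    (h.image (QuotientGroup.mk'_surjective _)) (oOf_top_eq.symm.trans (GsD.oOf_quot h2 hc hO))
  rw [← MonoidHom.map_closure] at this
  exact (this.comap_of_ker_isPGroup _ (by rwa [QuotientGroup.ker_mk'])).to_le (le_comap_map _ _)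

theorem Ch.conj (h : Ch X Y) (hA : Mx X A) (hB : Mx X B) (hx : Te x) (xA : x ∈ 𝐍(A)) (xB : x ∈ 𝐍(B)) :
    ∃ o, o * x = x * o ∧ cj o B = A := by
  set f := QuotientGroup.mk' (pPrimeCore 2 G)
  have hf : Function.Surjective f := QuotientGroup.mk'_surjective _
  have h1 := Ch.two _ _ _ (h.image hf) (Core.pPrimeCore_quotient_pPrimeCore 2)
  haveI := (h.l.image hf).normal
  have h2 := Te.sup (hx.map f) h1 (le_normalizer_of_normal (mem_top _))
  have k : ∀ {A}, Mx X A → A ⊔ zpowers x ≤ (closure (f '' X) ⊔ zpowers (f x)).comap f := fun hA =>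
    sup_le (fun a ha => mem_sup_left (subset_closure ⟨a, hA.sub a ha, rfl⟩))
      (zpowers_le.2 (mem_sup_right (mem_zpowers _)))
  obtain ⟨P, hP, hAP⟩ := exists_isSylowIn_le (hx.sup hA.two xA) (k hA)
  obtain ⟨g, hg, e⟩ := hP.exists_cj_le (hx.sup hB.two xB) (k hB)
  obtain ⟨p, hp, e'⟩ : f g ∈ P.map f := by
    rw [(hP.map f).eq_of_isPGroup (h2.to_le (map_comap_le f _))]
    exact mem_map_of_mem f hg
  have e2 : cj (p⁻¹ * g) (B ⊔ zpowers x) ≤ P := by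
    rw [cj_mul]; exact cj_le_of_mem (inv_mem hp) e
  refine ⟨p⁻¹ * g, mul_inv_eq_iff_eq_mul.1 (eq_of_odd odd_core hP.pgrp
    (e2 (conj_mem_cj (mem_sup_right (mem_zpowers x)))) (hAP (mem_sup_right (mem_zpowers x))) (show f _ = f _ by simp only [map_mul, map_inv, e']; group)),
    (hB.cj h.l _).eq hA fun b hb => hA.max P hP.pgrp (le_sup_left.trans hAP) b ((hB.cj h.l _).sub b hb)
      (e2 (cj_mono _ le_sup_left hb))⟩

end Cfsg.Agent.Hq
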