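import Mathlib
import Cfsg.Agent.Hq.A

/-! Fusion modulo a strongly closed generalized quaternion group is controlled by its normalizer. -/

set_option autoImplicit false
set_option linter.unusedSectionVars false
set_option linter.style.haveILetI false

namespace Cfsg.Agent.Hq

open Subgroup Cfsg.Agent.GW Cfsg.Agent.LocalEven Cfsg.Agent.BG Cfsg.Agent.Gs Cfsg.Agent.Gp
open scoped commutatorElement

universe u

variable {G H : Type u} [Group G] [Finite G] [Group H] [Finite H] {X : Set G} {A B D P V : Subgroup G}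
  {x y z g u w c s : G} {π : G →* H}

local instance fact2B : Fact (Nat.Prime 2) := ⟨Nat.prime_two⟩

/-- The only involution of `X` is the central involution `z`, and `π` is the quotient by `z`. -/
structure QS (X : Set G) (z : G) (π : G →* H) : Prop where
  cs : CS X
  z1 : z ≠ 1
  z2 : z * z = 1
  zX : z ∈ X
  cen : ∀ g, g * z = z * g
  uniq : ∀ x ∈ X, x * x = 1 → x = 1 ∨ x = z
  ker : ∀ x, π x = 1 ↔ x = 1 ∨ x = z

/-- The centralizer modulo the kernel. -/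
abbrev Cz (π : G →* H) (u : G) : Subgroup G := (cz (π u)).comap π

theorem mem_Cz : g ∈ Cz π u ↔ π g * π u = π u * π g := mem_cz

theorem Cz_conj (h : g ∈ Cz π u) : π (g * u * g⁻¹) = π u := by
  rw [map_mul, map_mul, map_inv, mem_Cz.1 h, mul_inv_cancel_right]

theorem cz_le_Cz (u : G) : cz u ≤ Cz π u := fun g hg => by rw [mem_Cz, ← map_mul, mem_cz.1 hg, map_mul]

theorem cj_le_Cz (h : A ≤ Cz π u) (e : π (g * u * g⁻¹) = π w) : cj g A ≤ Cz π w := cj_le_iff'.2 fun a ha => by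
  have := mem_Cz.1 (h ha)
  rw [mem_Cz, ← e]
  simp only [map_mul, map_inv]
  calc _ = π g * (π a * π u) * (π g)⁻¹ := by group
    _ = _ := by rw [this]; group

/-- The preimage of a four-group. -/
abbrev Vv (π : G →* H) (u w : G) : Subgroup G := (four (π u) (π w)).comap π

/-- `x` acts in the same way on `A` and on `B`. -/
def Rl (x : G) (A B : Subgroup G) : Prop :=
  (∃ g, cj g A = B ∧ g * x * g⁻¹ * x⁻¹ ∈ B) ∧ (x ∈ 𝐂(A) ↔ x ∈ 𝐂(B))

theorem Rl.trans (h : Rl x A B) (h' : Rl x B D) : Rl x A D := by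
  obtain ⟨⟨g, rfl, e⟩, h⟩ := h
  obtain ⟨⟨k, rfl, e'⟩, h'⟩ := h'
  refine ⟨⟨k * g, cj_mul _ _ _, ?_⟩, h.trans h'⟩
  convert mul_mem (conj_mem_cj (g := k) e) e' using 1; group

theorem Rl.symm (h : Rl x A B) : Rl x B A := by
  obtain ⟨⟨g, rfl, e⟩, h⟩ := h
  refine ⟨⟨g⁻¹, cj_inv_cj _ _, ?_⟩, h.symm⟩
  convert inv_mem (mem_cj.1 e) using 1; group

theorem norm_cj (xA : x ∈ 𝐍(A)) (h : g * x * g⁻¹ * x⁻¹ ∈ cj g A) : x ∈ 𝐍(cj g A) := by
  have := mul_mem (inv_mem (le_normalizer h)) (cj_normalizer g A ▸ conj_mem_cj xA)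
  rwa [show (g * x * g⁻¹ * x⁻¹)⁻¹ * (g * x * g⁻¹) = x by group] at this

theorem quat_sq {n : ℕ} (hn : 1 ≤ n) {q : QuaternionGroup (2 ^ n)} (h : ∀ r, r * q = q * r) : q * q = 1 := by
  rcases q with i | i
  · have := h (.xa 0)
    simp only [QuaternionGroup.xa_mul_a, QuaternionGroup.a_mul_xa, QuaternionGroup.xa.injEq] at this
    rw [QuaternionGroup.a_mul_a, QuaternionGroup.one_def]
    congr 1
    linear_combination this
  · have := h (.a 1)
    simp only [QuaternionGroup.xa_mul_a, QuaternionGroup.a_mul_xa, QuaternionGroup.xa.injEq] at this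
    have h2 : ((2 : ℕ) : ZMod (2 * 2 ^ n)) = 0 := by push_cast; linear_combination -this
    have := Nat.le_of_dvd two_pos ((ZMod.natCast_eq_zero_iff _ _).1 h2)
    have := Nat.pow_le_pow_right two_pos hn
    omega

namespace QS
variable (h : QS X z π)
include h

theorem pz : π z = 1 := (h.ker z).2 (Or.inr rfl)

theorem eq_or (e : π x = π y) : x = y ∨ x = y * z := by
  rcases (h.ker (y⁻¹ * x)).1 (by rw [map_mul, map_inv, e, inv_mul_cancel]) with e | e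
  · exact Or.inl (inv_mul_eq_one.1 e).symm
  · exact Or.inr (inv_mul_eq_iff_eq_mul.1 e)

theorem comm_of_eq (e : π x = π y) (hc : g * y = y * g) : g * x = x * g := by
  rcases h.eq_or e with rfl | rfl
  · exact hc
  · rw [← mul_assoc, hc, mul_assoc, h.cen, mul_assoc]

theorem z_mem (hA : Mx X A) : z ∈ A :=
  hA.mem h.cs h.zX (centralizer_le_normalizer _ fun g _ => h.cen g)

theorem mem_of_eq (hA : z ∈ A) (hs : s ∈ A) (e : π x = π s) : x ∈ A := by
  rcases h.eq_or e with rfl | rfl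
  exacts [hs, mul_mem hs hA]

theorem sq_of (hx : x ∈ X) (h1 : π x ≠ 1) (h2 : π x * π x = 1) : x * x = z :=
  ((h.ker _).1 ((map_mul π x x).trans h2)).resolve_left fun e => h1 ((h.ker x).2 (h.uniq x hx e))

theorem ne_one (hu : u * u = z) : π u ≠ 1 := fun e => h.z1 (by
  rcases (h.ker u).1 e with rfl | rfl
  · rw [← hu, mul_one]
  · rw [← hu, h.z2])

theorem sq (hu : u * u = z) : π u * π u = 1 := by rw [← map_mul, hu, h.pz]

theorem eq_of_comm (hA : Mx X A) (uA : u ∈ A) (wA : w ∈ A) (hu : u * u = z) (hw : w * w = z)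
    (hc : u * w = w * u) : π u = π w := by
  have := (h.ker _).2 (h.uniq _ (hA.sub _ (mul_mem uA (inv_mem wA))) (sq_mul_inv hc (hu.trans hw.symm)))
  rwa [map_mul, map_inv, mul_inv_eq_one] at this

theorem exists_pow (hx : x ∈ X) (h1 : π x ≠ 1) : ∃ y ∈ zpowers x, y * y = z := by
  obtain ⟨t, ht, e⟩ := exists_mem_orderOf_eq_of_ne_bot (Te.map (h.cs.two x hx) π) (by simpa using h1)
  rw [← MonoidHom.map_zpowers] at ht
  obtain ⟨y, hy, rfl⟩ := ht
  exact ⟨y, hy, h.sq_of (h.cs.zp hx hy) (ne_one_of_orderOf_eq e) (sq_of_two e)⟩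

theorem one_of_comm (hA : Mx X A) (wA : w ∈ A) (hw : w * w = z) (hs : s * w ≠ w * s) (cA : c ∈ A)
    (cw : c ∈ cz w) (cs : c ∈ cz s) : π c = 1 := by
  by_contra h1
  obtain ⟨y, hy, e⟩ := h.exists_pow (hA.sub c cA) h1
  exact hs (h.comm_of_eq (h.eq_of_comm hA (zpowers_le.2 cA hy) wA e hw (mem_cz.1 (zpowers_le.2 cw hy))).symm
    (mem_cz.1 (zpowers_le.2 cs hy)).symm)

theorem exists_u (hA : Mx X A) (hP : IsPGroup 2 P) (hn : P ≤ 𝐍(A)) (nt : ∃ s ∈ X, π s ≠ 1) :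
    ∃ u ∈ A, u * u = z ∧ A ≤ Cz π u ∧ P ≤ Cz π u := by
  obtain ⟨s, hs, s1⟩ := nt
  obtain ⟨g, hg⟩ := hA.exists_conj h.cs hs
  obtain ⟨_, ⟨u, hu, rfl⟩, h1, h2⟩ := exists_mem_inf_centralizer
    ((hA.two.to_sup_of_normal_left' hP hn).map π) (hA.two.map π)
    ((map_mono (sup_le le_normalizer hn)).trans (le_normalizer_map π)) fun e => conj_ne_one s1 (π g) (by
      have := mem_map_of_mem π hg
      rw [e, mem_bot] at this
      simpa using this)
  exact ⟨u, hu, h.sq_of (hA.sub u hu) (ne_one_of_orderOf_eq h2) (sq_of_two h2),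
    fun a ha => mem_Cz.2 (h1 _ (mem_map_of_mem π (mem_sup_left ha))),
    fun a ha => mem_Cz.2 (h1 _ (mem_map_of_mem π (mem_sup_right ha)))⟩

theorem conj_eq (hg : g ∈ Cz π u) (h1 : g ∉ cz u) : g * u * g⁻¹ = u * z :=
  (h.eq_or (Cz_conj hg)).resolve_left fun e => h1 (mem_cz_of_conj e)

theorem mul_mem_cz (hg : g ∈ Cz π u) (h1 : g ∉ cz u) (hy : y ∈ Cz π u) (h2 : y ∉ cz u) : g * y ∈ cz u :=
  mem_cz_of_conj (by
    rw [show g * y * u * (g * y)⁻¹ = g * (y * u * y⁻¹) * g⁻¹ by group, h.conj_eq hy h2, ← mul_assoc,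
      mul_assoc _ z, ← h.cen, ← mul_assoc, h.conj_eq hg h1, mul_assoc, h.z2, mul_one])

theorem norm_cz : Cz π u ≤ 𝐍(cz u) := fun g hg => mem_normalizer_fintype fun c hc =>
  mem_cz.2 (h.comm_of_eq (Cz_conj hg).symm (by
    rw [← mem_cz, ← cj_cz]; exact conj_mem_cj hc))

theorem cyc (hA : Mx X A) (uA : u ∈ A) (hu : u * u = z) : IsCyclic (A ⊓ cz u : Subgroup G) := by
  have hz : z ∈ A ⊓ cz u := ⟨h.z_mem hA, mem_cz.2 (h.cen u).symm⟩
  have key : ∀ K : Subgroup (A ⊓ cz u : Subgroup G), Nat.card K = 2 → K = zpowers ⟨z, hz⟩ := fun K hK => by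
    obtain ⟨t, ht, t2⟩ := exists_mem_orderOf_eq (p := 2) hK.symm.dvd
    have e : t = ⟨z, hz⟩ := Subtype.ext ((h.uniq t (hA.sub t t.2.1) (congrArg Subtype.val (sq_of_two t2))).resolve_left
      fun e => ne_one_of_orderOf_eq t2 (Subtype.ext e))
    exact (eq_of_le_of_card_le (zpowers_le.2 (e ▸ ht)) (by rw [Nat.card_zpowers, ← e, t2, hK])).symm
  refine (PGrp.isCyclic_or_quaternion_of_unique hA.two.to_inf_left fun K L a b =>
    (key K a).trans (key L b).symm).resolve_right fun ⟨_, m, hm, ⟨e⟩⟩ => h.z1 ?_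
  have := quat_sq hm (q := e ⟨u, uA, self_mem_cz u⟩) fun r => by
    obtain ⟨r, rfl⟩ := e.surjective r
    rw [← map_mul, ← map_mul]
    exact congrArg e (Subtype.ext (mem_cz.1 r.2.2))
  rw [← map_mul, map_eq_one_iff _ e.injective] at this
  exact hu.symm.trans (congrArg Subtype.val this)

theorem move (hV : V ≤ A) (hg : g ∈ 𝐍(V)) (hx : g * x * g⁻¹ * x⁻¹ ∈ V) (hZ : ∀ v ∈ V, v ∈ 𝐂(V) → π v = 1) :
    Rl x A (cj g A) := by
  have h1 : V ≤ cj g A := cj_eq_of_mem_normalizer hg ▸ cj_mono g hV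
  have h2 : g * x * g⁻¹ ∈ 𝐂(cj g A) ↔ x ∈ 𝐂(A) := by rw [← cj_centralizer, conj_mem_cj_iff]
  have h3 : x ∈ 𝐂(V) → (g * x * g⁻¹ ∈ 𝐂(cj g A) ↔ x ∈ 𝐂(cj g A)) := fun hc => by
    have := hZ _ hx (mul_mem (conj_mem_of_mem_normalizer (normalizer_le_normalizer_centralizer V hg) hc) (inv_mem hc))
    rw [map_mul, map_inv, mul_inv_eq_one] at this
    exact ⟨fun a b m => h.comm_of_eq this.symm (a b m), fun a b m => h.comm_of_eq this (a b m)⟩
  exact ⟨⟨g, rfl, h1 hx⟩, fun a => (h3 (cent_anti hV a)).1 (h2.2 a), fun a => h2.1 ((h3 (cent_anti h1 a)).2 a)⟩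

theorem of_center (hA : Mx X A) (hB : Mx X B) (uA : u ∈ A) (hu : u * u = z) (Au : A ≤ Cz π u) (Bu : B ≤ Cz π u)
    (hx : Te x) (xu : x ∈ Cz π u) (xA : x ∈ 𝐍(A)) (xB : x ∈ 𝐍(B)) : Rl x B A := by
  haveI : ((cz u).subgroupOf (Cz π u)).Normal := normal_subgroupOf_of_le_normalizer h.norm_cz
  have hX := h.cs.comap (Cz π u).subtype_injective
  have hC : Ch ((Cz π u).subtype ⁻¹' X) ((Cz π u).subtype ⁻¹' X ∩ (cz u).subgroupOf (Cz π u)) := by
    refine ⟨hX, hX.inter_normal _, Set.inter_subset_left, fun P hP => ?_, fun P hP x hx y hy a b => ?_⟩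
    · obtain ⟨m, -, e⟩ := (hA.subgroupOf Au).exists_in hX le_top hP le_top
      obtain ⟨c, hc⟩ := (h.cyc hA uA hu).exists_generator
      refine ⟨m * ⟨c, Au c.2.1⟩ * m⁻¹, fun y hy a => ?_⟩
      rw [← cj_zpowers, mem_cj]
      obtain ⟨k, hk⟩ := hc ⟨_, (mem_cj.1 (((hA.subgroupOf Au).cj hX m).mem hX hy.1 (e a)) :),
        inv_conj_mem_of_mem_normalizer (h.norm_cz m.2) hy.2⟩
      exact ⟨k, Subtype.ext (congrArg Subtype.val hk :)⟩
    · by_cases h1 : (x : G) ∈ cz u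
      · exact Or.inl ⟨hx, h1⟩
      by_cases h2 : (y : G) ∈ cz u
      · exact Or.inr (Or.inl ⟨hy, h2⟩)
      exact Or.inr (Or.inr ⟨hX.mul P hP x hx y hy a b, h.mul_mem_cz x.2 h1 y.2 h2⟩)
  have k : ∀ {A : Subgroup G}, x ∈ 𝐍(A) → (⟨x, xu⟩ : Cz π u) ∈ 𝐍(A.subgroupOf (Cz π u)) := fun xA =>
    mem_normalizer_fintype fun a ha => (conj_mem_of_mem_normalizer xA ha :)
  obtain ⟨o, o1, o2⟩ := hC.conj (hA.subgroupOf Au) (hB.subgroupOf Bu) (x := ⟨x, xu⟩)
    ((hx.comap_of_injective _ (Cz π u).subtype_injective).to_le (zpowers_le.2 (mem_zpowers x))) (k xA) (k xB)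
  have e : cj (o : G) B = A := (hB.cj h.cs o).eq hA (cj_le_iff'.2 fun b hb =>
    o2.le (conj_mem_cj (g := o) (x := ⟨b, Bu hb⟩) hb))
  refine e ▸ h.move bot_le (le_normalizer_of_normal (mem_top _)) ?_ fun v hv _ => by rw [mem_bot.1 hv, map_one]
  rw [show (o : G) * x = x * o from congrArg Subtype.val o1]; simp

section
variable (hB : Mx X B) (uB : u ∈ B) (wB : w ∈ B) (hu : u * u = z) (hw : w * w = z) (Bw : B ≤ Cz π w)
  (hne : u * w ≠ w * u)
include hB uB wB hu hw Bw hne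

theorem mem_Vv : c ∈ Vv π u w ↔ π c = 1 ∨ π c = π u ∨ π c = π w ∨ π c = π u * π w :=
  Inv.mem_closure_commute_iff (h.sq hu) (h.sq hw) (mem_Cz.1 (Bw uB))

theorem inf_eq : B ⊓ Cz π u = Vv π u w := by
  have hm := fun c => h.mem_Vv (c := c) hB uB wB hu hw Bw hne
  have k : ∀ c ∈ B ⊓ Cz π u, c ∈ cz w → c ∈ Vv π u w := fun c hc cw => by
    have h1 : c * c ∈ cz u := by
      by_cases e : c ∈ cz u
      exacts [mul_mem e e, h.mul_mem_cz hc.2 e hc.2 e]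
    have h2 := h.one_of_comm hB wB hw hne (mul_mem hc.1 hc.1) (mul_mem cw cw) h1
    by_cases e : π c = 1
    · exact (hm c).2 (Or.inl e)
    · exact (hm c).2 (Or.inr (Or.inr (Or.inl (h.eq_of_comm hB hc.1 wB
        (h.sq_of (hB.sub c hc.1) e ((map_mul π c c).symm.trans h2)) hw (mem_cz.1 cw)))))
  have hu' : u ∈ B ⊓ Cz π u := ⟨uB, cz_le_Cz u (self_mem_cz u)⟩
  refine le_antisymm (fun c hc => ?_) fun c hc => ?_
  · by_cases e : c ∈ cz w
    · exact k c hc e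
    · exact (mul_mem_cancel_right (show u ∈ Vv π u w from left_mem_four _ _)).1 (k _ (mul_mem hc hu')
        (h.mul_mem_cz (Bw hc.1) e (Bw uB) fun e => hne (mem_cz.1 e)))
  · have hz : z ∈ B ⊓ Cz π u := ⟨h.z_mem hB, cz_le_Cz u (mem_cz.2 (h.cen u).symm)⟩
    have hw' : w ∈ B ⊓ Cz π u := ⟨wB, mem_Cz.2 (mem_Cz.1 (Bw uB)).symm⟩
    rcases (hm c).1 hc with e | e | e | e
    · exact h.mem_of_eq hz (one_mem _) (e.trans π.map_one.symm)
    · exact h.mem_of_eq hz hu' e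
    · exact h.mem_of_eq hz hw' e
    · exact h.mem_of_eq hz (mul_mem hu' hw') (e.trans (map_mul π u w).symm)

theorem swap (hn : ¬ B ≤ Cz π u) (hx : Te x) (xu : x ∈ Cz π u) (xB : x ∈ 𝐍(B)) :
    ∃ d ∈ B, d ∈ 𝐍(Vv π u w) ∧ d * x * d⁻¹ * x⁻¹ ∈ Vv π u w ∧ π (d * u * d⁻¹) = π u * π w := by
  have hi := h.inf_eq hB uB wB hu hw Bw hne
  have h1 : Vv π u w ⊔ zpowers x ≤ Cz π u := sup_le (hi.ge.trans inf_le_right) (zpowers_le.2 xu)
  obtain ⟨d', d1, d2, d3⟩ := exists_mem_normalizer_of_lt (hx.sup hB.two xB) (lt_of_le_of_ne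
    (sup_le_sup_right (hi.ge.trans inf_le_left) _) fun e => hn (le_sup_left.trans (e.ge.trans h1)))
  obtain ⟨d, hd, r, hr, rfl⟩ := (mem_sup_iff_of_le_normalizer' (zpowers_le.2 xB)).1 d1
  rw [mul_mem_cancel_right (le_normalizer (mem_sup_right hr))] at d2
  rw [mul_mem_cancel_right (mem_sup_right hr)] at d3
  have h2 : d ∈ 𝐍(Vv π u w) := mem_normalizer_fintype fun v hv => hi.le
    ⟨conj_mem_of_mem_normalizer (le_normalizer hd) (hi.ge hv).1,
      h1 (conj_mem_of_mem_normalizer d2 (mem_sup_left hv))⟩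
  refine ⟨d, hd, h2, hi.le ⟨?_, h1 (mul_mem (conj_mem_of_mem_normalizer d2 (mem_sup_right (mem_zpowers x)))
    (inv_mem (mem_sup_right (mem_zpowers x))))⟩, ?_⟩
  · simpa [mul_assoc] using mul_mem hd (conj_mem_of_mem_normalizer xB (inv_mem hd))
  rcases (h.mem_Vv hB uB wB hu hw Bw hne).1 (conj_mem_of_mem_normalizer h2 (left_mem_four _ _)) with e | e | e | e
  · exact absurd (by simpa using e) (conj_ne_one (h.ne_one hu) (π d))
  · exact absurd (mem_sup_left (hi.le ⟨hd, mem_Cz.2 (by simpa [mul_inv_eq_iff_eq_mul] using e)⟩)) d3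
  · rw [← Cz_conj (Bw hd)] at e
    exact absurd (h.comm_of_eq (show π u = π w by simpa using e) rfl).symm hne
  · exact e

end

theorem of_mem (hA : Mx X A) (hB : Mx X B) (uA : u ∈ A) (uB : u ∈ B) (hu : u * u = z) (Au : A ≤ Cz π u)
    (hx : Te x) (xu : x ∈ Cz π u) (xA : x ∈ 𝐍(A)) (xB : x ∈ 𝐍(B)) : Rl x B A := by
  by_cases hn : B ≤ Cz π u
  · exact h.of_center hA hB uA hu Au hn hx xu xA xB
  obtain ⟨w, wB, hw, Bw, xw⟩ := h.exists_u hB hx (zpowers_le.2 xB) ⟨u, hA.sub u uA, h.ne_one hu⟩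
  replace xw := xw (mem_zpowers x)
  have hne : u * w ≠ w * u := fun e => hn (by rw [Cz, h.eq_of_comm hB uB wB hu hw e]; exact Bw)
  have hi := h.inf_eq hB uB wB hu hw Bw hne
  have hVB := hi.ge.trans inf_le_left
  obtain ⟨m, hm, e⟩ := hA.exists_in h.cs Au ((hx.sup hB.two xB).to_le (sup_le_sup_right hVB _))
    (sup_le (hi.ge.trans inf_le_right) (zpowers_le.2 xu))
  have hD := hA.cj h.cs m
  have Du : cj m A ≤ Cz π u := cj_le_of_mem hm Au
  generalize cj m A = D at *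
  have xD := e (mem_sup_right (mem_zpowers x))
  have hVD : Vv π u w ≤ D := fun v hv => hD.mem h.cs (hB.sub v (hVB hv)) (e (mem_sup_left hv))
  have uD := hVD (left_mem_four _ _)
  have wD := hVD (right_mem_four _ _)
  have hc : Vv π w u = Vv π u w := by rw [Vv, four_comm]
  obtain ⟨d, -, d1, d2, d3⟩ := h.swap hB uB wB hu hw Bw hne hn hx xu xB
  obtain ⟨k, kD, k1, k2, k3⟩ := h.swap hD wD uD hw hu Du hne.symm (fun e => hn (hD.eq hB (((le_inf le_rfl e).trans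
    (h.inf_eq hD wD uD hw hu Du hne.symm).le).trans (hc ▸ hVB)) ▸ Du)) hx xw xD
  rw [hc] at k1 k2
  have h1 : k * d * x * (k * d)⁻¹ * x⁻¹ ∈ Vv π u w := by
    convert mul_mem (conj_mem_of_mem_normalizer k1 d2) k2 using 1; group
  have h2 : Vv π u w ≤ cj (k * d) D := cj_eq_of_mem_normalizer (mul_mem k1 d1) ▸ cj_mono _ hVD
  refine ((h.of_center (hD.cj h.cs _) hB (h2 (right_mem_four _ _)) hw (cj_le_Cz Du ?_) Bw hx xw ?_ xB).trans
    (h.move hVD (mul_mem k1 d1) h1 fun v hv hc => h.one_of_comm hB wB hw hne (hVB hv)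
      (mem_cz.2 (hc _ (right_mem_four _ _)).symm) (mem_cz.2 (hc _ (left_mem_four _ _)).symm)).symm).trans
    (h.of_center hA hD uA hu Au Du hx xu xA xD)
  · rw [show k * d * u * (k * d)⁻¹ = k * (d * u * d⁻¹) * k⁻¹ by group, map_mul, map_mul, d3,
      show π k * (π u * π w) * π k⁻¹ = π (k * u * k⁻¹) * π (k * w * k⁻¹) by simp [mul_assoc], k3, Cz_conj (Du kD),
      ← mul_assoc, mem_Cz.1 (Bw uB), mul_assoc, h.sq hu, mul_one]
  · exact norm_cj xD (h2 h1)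

theorem all (nt : ∃ s ∈ X, π s ≠ 1) (hA : Mx X A) (hB : Mx X B) (hx : Te x) (xA : x ∈ 𝐍(A)) (xB : x ∈ 𝐍(B)) :
    Rl x A B := by
  obtain ⟨u, uA, hu, Au, xu⟩ := h.exists_u hA hx (zpowers_le.2 xA) nt
  obtain ⟨w, wB, hw, Bw, xw⟩ := h.exists_u hB hx (zpowers_le.2 xB) nt
  replace xu := xu (mem_zpowers x)
  replace xw := xw (mem_zpowers x)
  have xx : x ∈ Cz π x := cz_le_Cz x (self_mem_cz x)
  obtain ⟨T, hT, h1⟩ := exists_isSylowIn_le ((hx.sup hA.two xA).to_inf_left (K := Cz π x)) inf_le_right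
  obtain ⟨m, hm, h2⟩ := hT.exists_cj_le ((hx.sup hB.two xB).to_inf_left (K := Cz π x)) inf_le_right
  obtain ⟨D, hD, e⟩ := exists_mx h.cs hT.pgrp
  have xD := e (h1 ⟨mem_sup_right (mem_zpowers x), xx⟩)
  have h3 : m * x * m⁻¹ * x⁻¹ ∈ π.ker := by
    rw [MonoidHom.mem_ker, map_mul, Cz_conj hm, map_inv, mul_inv_cancel]
  have h4 : ∀ {B}, Mx X B → π.ker ≤ B := fun hB v hv => h.mem_of_eq (h.z_mem hB) (one_mem _) (by rw [map_one, hv])
  have hB' := hB.cj h.cs m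
  refine ((h.of_mem hA hD uA (hD.mem h.cs (hA.sub u uA) (e (h1 ⟨mem_sup_left uA, mem_Cz.2 (mem_Cz.1 xu).symm⟩)))
    hu Au hx xu xA xD).symm.trans (h.of_mem hB' hD (conj_mem_cj wB) (hD.mem h.cs (h.cs.conj w (hB.sub w wB) m)
      (e (h2 (conj_mem_cj ⟨mem_sup_left wB, mem_Cz.2 (mem_Cz.1 xw).symm⟩)))) ?_ (cj_le_Cz Bw rfl) hx ?_ ?_ xD)).trans
    (h.move (h4 hB) (le_normalizer_of_normal (mem_top m)) h3 fun v hv _ => hv).symm
  · rw [show m * w * m⁻¹ * (m * w * m⁻¹) = m * (w * w) * m⁻¹ by group, hw, h.cen, mul_inv_cancel_right]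
  · rw [mem_Cz, ← Cz_conj hm]
    exact mem_Cz.1 (cj_le_Cz (zpowers_le.2 xw) rfl (conj_mem_cj (mem_zpowers x)))
  · exact norm_cj xB (h4 hB' h3)

end QS

end Cfsg.Agent.Hq
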