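import Mathlib
import Cfsg.Agent.Asc.Cons2

set_option autoImplicit false
set_option linter.unusedSectionVars false
set_option linter.style.haveILetI false

/-! The data `BT`, `KT` whenever `Z ∩ M` centralises the kernel. -/

namespace Cfsg.Agent.Asc

open MulAction Subgroup Cfsg.Agent.Ben Cfsg.Agent.Core Cfsg.Agent.Suz
open scoped Pointwise commutatorElement

/-- `Z ∩ M` centralises the kernel of `M` on the orbit of `a`. -/
structure MD {G Ω : Type*} [Group G] [MulAction G Ω] (Z : Set G) (M : Subgroup G) (a : Ω) : Prop where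
  zs : ZS G Ω Z
  cent : ∀ z ∈ Z, z ∈ M → ∀ x ∈ Ker M a, x * z = z * x

variable {G Ω : Type*} [Group G] [Finite G] [MulAction G Ω] {Z : Set G}

namespace MD
variable {M : Subgroup G} {a : Ω} (hG : MD Z M a)
include hG

theorem lemC {z x : G} (hz : z ∈ Z) (hzM : z ∈ M) (hx : x ∈ Ker M a) : x * z = z * x := hG.cent z hz hzM x hx

theorem lemC_LZ {l x : G} (hl : l ∈ LZ Z M) (hx : x ∈ Ker M a) : x * l = l * x :=
  (mem_cent_single.1 ((closure_le (CC x)).2 (fun _ hz =>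
    mem_cent_single.2 (hG.lemC hz.1 hz.2 hx).symm) hl)).symm

set_option hygiene false in
local notation "𝐋" => LZ Z M
set_option hygiene false in
local notation "𝛑" => toBar (LZ Z M) a

section
variable (h4 : FourZ Z (M ⊓ stabilizer G a)) (ha : ¬ M ≤ stabilizer G a)
include h4 ha

theorem ih : SE (Bar (LZ Z M) a) (orbit (LZ Z M) a) := by
  obtain ⟨z, hz, hzM⟩ := h4.exists_ZZ
  exact hG.zs.se_bar hz hzM ha

theorem LZ_move : ¬ LZ Z M ≤ stabilizer G a := by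
  obtain ⟨z, hz, hzM⟩ := h4.exists_ZZ
  exact hG.zs.LZ_move hz hzM ha

theorem orbit_LZ : orbit (LZ Z M) a = orbit M a := by
  obtain ⟨z, hz, hzM⟩ := h4.exists_ZZ
  exact hG.zs.orbit_LZ hz hzM

theorem mem_Ker_LZ {x : G} : x ∈ Ker (LZ Z M) a ↔ x ∈ LZ Z M ∧ x ∈ Ker M a := by
  obtain ⟨z, hz, hzM⟩ := h4.exists_ZZ
  exact hG.zs.mem_Ker_LZ hz hzM

theorem toBarL_eq_one {x : LZ Z M} : toBar (LZ Z M) a x = 1 ↔ (x : G) ∈ Ker M a := by
  rw [toBar_eq_one, hG.mem_Ker_LZ h4 ha]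
  exact ⟨fun h => h.2, fun h => ⟨x.2, h⟩⟩

theorem ih_barL : ∃ (t : Bar (LZ Z M) a) (Q : Subgroup (Bar (LZ Z M) a)),
    Cfsg.IsRankOneSetup (Bar (LZ Z M) a) (orbit (LZ Z M) a) ⟨a, mem_orbit_self a⟩ t Q ∧
      Suz.TwoRank (Bar (LZ Z M) a) := by
  haveI := finite_Bar (LZ Z M) a
  have h2 := hG.zs.twoRank_Bar (hG.LZ_move h4 ha) ((ZS.FourZ_LZ h4).mono inf_le_left)
  obtain ⟨t, Q, hS⟩ := bender (hG.ih h4 ha) h2 ⟨a, mem_orbit_self a⟩
  exact ⟨t, Q, hS, h2⟩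

theorem ih_two {b c b' c' : Ω} (hb : b ∈ orbit M a) (hc : c ∈ orbit M a) (hb' : b' ∈ orbit M a)
    (hc' : c' ∈ orbit M a) (h : b ≠ c) (h' : b' ≠ c') : ∃ g ∈ LZ Z M, g • b = b' ∧ g • c = c' := by
  obtain ⟨t, Q, hS, -⟩ := hG.ih_barL h4 ha
  rw [← hG.orbit_LZ h4 ha] at hb hc hb' hc'
  obtain ⟨g, h1, h2⟩ := RankOne.two_trans hS.two_transitive (a := ⟨b, hb⟩) (b := ⟨c, hc⟩)
    (c := ⟨b', hb'⟩) (d := ⟨c', hc'⟩) (fun e => h (congrArg Subtype.val e))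
    (fun e => h' (congrArg Subtype.val e))
  obtain ⟨m, rfl⟩ := toBar_surj _ a g
  exact ⟨m, m.2, congrArg Subtype.val h1, congrArg Subtype.val h2⟩

theorem ih_inv {u k : G} (hu : u ∈ Z) (huM : u ∈ M) (hkM : k ∈ M) (hk : u * k * u⁻¹ = k⁻¹)
    (ho : Odd (orderOf k)) {b c d : Ω} (hb : b ∈ orbit M a) (hc : c ∈ orbit M a)
    (hd : d ∈ orbit M a) (hbc : b ≠ c) (hbd : b ≠ d) (hcd : c ≠ d) (kb : k • b = b) (kc : k • c = c)
    (kd : k • d = d) : k ∈ Ker M a := by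
  haveI := finite_Bar (LZ Z M) a
  obtain ⟨t, Q, hS, -⟩ := hG.ih_barL h4 ha
  rw [← hG.orbit_LZ h4 ha] at hb hc hd
  have huL := mem_LZ hu huM
  have hkL : k ∈ LZ Z M := (mul_mem_cancel_right huL).1 (mem_LZ (hG.zs.mul_mem_Z hu hk ho) (mul_mem hkM huM))
  obtain ⟨e, he, ke, ue⟩ : ∃ e ∈ orbit (LZ Z M) a, k • e = e ∧ u • e ≠ e := by
    by_cases h : u • b = b
    · exact ⟨c, hc, kc, fun h' => hbc (hG.zs.uniq u hu b c h h')⟩
    · exact ⟨b, hb, kb, h⟩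
  obtain ⟨g, hg⟩ := RankOne.Setup.exists_smul_eq hS ⟨a, mem_orbit_self a⟩ ⟨e, he⟩
  have hS1 := RankOne.Setup.conj hS g
  rw [hg] at hS1
  have hS2 := RankOne.Setup.change_t hS1 (hG.zs.toBar_sq hu huL) (fun h => ue (congrArg Subtype.val h))
  have hD : toBar (LZ Z M) a ⟨k, hkL⟩ ∈ stabilizer (Bar (LZ Z M) a) (⟨e, he⟩ : orbit (LZ Z M) a) ⊓
      stabilizer (Bar (LZ Z M) a) (toBar (LZ Z M) a ⟨u, huL⟩ • (⟨e, he⟩ : orbit (LZ Z M) a)) :=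
    ⟨Subtype.ext ke, Subtype.ext (SE.fix_of_inverted (G := G) rfl hk ke)⟩
  obtain ⟨s, hs, hsc, hs1, -⟩ := RankOne.Setup.exists_cent_involution_Q hS2 (X := {toBar (LZ Z M) a ⟨k, hkL⟩})
    (by rintro _ rfl; exact hD)
    ⟨⟨b, hb⟩, ⟨c, hc⟩, ⟨d, hd⟩, fun e => hbc (congrArg Subtype.val e),
      fun e => hbd (congrArg Subtype.val e), fun e => hcd (congrArg Subtype.val e), by
        rintro _ rfl
        exact ⟨Subtype.ext kb, Subtype.ext kc, Subtype.ext kd⟩⟩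
  by_contra hne
  refine hs1 (RankOne.Setup.K_fpf hS2 (x := toBar (LZ Z M) a ⟨k, hkL⟩) ⟨hD, ?_⟩
    (fun h => hne ((hG.toBarL_eq_one h4 ha).mp h)) hs (hsc _ rfl))
  rw [← map_inv, ← map_mul, ← map_mul, ← map_inv]
  congr 1
  exact Subtype.ext hk

theorem ih_cmm {x y : G} (hx : x ∈ LZ Z M) (hy : y ∈ LZ Z M) {c : Ω} (hc : c ∈ orbit M a) (xc : x • c = c)
    (yc : y • c = c) (hx2 : x * x ∈ Ker M a) (hy2 : y * y ∈ Ker M a) : ⁅x, y⁆ ∈ Ker M a := by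
  haveI := finite_Bar (LZ Z M) a
  obtain ⟨t, Q, hS, h2⟩ := hG.ih_barL h4 ha
  rw [← hG.orbit_LZ h4 ha] at hc
  obtain ⟨g, hg⟩ := RankOne.Setup.exists_smul_eq hS ⟨a, mem_orbit_self a⟩ ⟨c, hc⟩
  have hS1 := RankOne.Setup.conj hS g
  rw [hg] at hS1
  have e : ∀ {w : G} (hw : w ∈ LZ Z M), w * w ∈ Ker M a →
      toBar (LZ Z M) a ⟨w, hw⟩ * toBar (LZ Z M) a ⟨w, hw⟩ = 1 := fun hw h => by
    rw [← map_mul, hG.toBarL_eq_one h4 ha]; exact h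
  refine (hG.toBarL_eq_one h4 ha (x := ⁅(⟨x, hx⟩ : LZ Z M), ⟨y, hy⟩⁆)).1 ?_
  rw [map_commutatorElement, commutatorElement_eq_one_iff_mul_comm]
  by_cases h1 : toBar (LZ Z M) a ⟨x, hx⟩ = 1
  · rw [h1, one_mul, mul_one]
  exact RankOne.Setup.involution_central hS1 h2 ⟨Subtype.ext xc, h1, e hx hx2⟩
    (RankOne.Setup.mem_Q_of_mul_self hS1 (Subtype.ext yc) (e hy hy2))

theorem ih_sq {w : G} (hw : w ∈ LZ Z (M ⊓ stabilizer G a)) : w * w ∈ Ker M a := by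
  have hle : LZ Z (M ⊓ stabilizer G a) ≤ LZ Z M := LZ_mono inf_le_left
  induction hw using closure_induction with
  | mem z hz => rw [hG.zs.sq z hz.1]; exact one_mem _
  | one => simp
  | mul x y hx hy h1 h2 =>
    exact MC.sq_mul_mem_Ker h1 h2 (hG.ih_cmm h4 ha (hle hx) (hle hy) (mem_orbit_self a)
      (LZ_le _ hx).2 (LZ_le _ hy).2 h1 h2) (LZ_le _ hx).1
  | inv x _ h => rw [← mul_inv_rev]; exact inv_mem h

theorem ih_lift {x : G} (hx : x ∈ LZ Z M) (h1 : x ∉ Ker M a) (h2 : x * x ∈ Ker M a) :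
    ∃ z ∈ Z, z ∈ M ∧ x * z ∈ Ker M a := by
  haveI := finite_Bar (LZ Z M) a
  obtain ⟨z, hz, hzM⟩ := h4.exists_ZZ
  have hS := hG.ih h4 ha
  have hzL := mem_LZ hz.1 hzM
  obtain ⟨c, hc⟩ := hS.exists_mem_II (u := toBar (LZ Z M) a ⟨x, hx⟩)
    (fun h => h1 ((hG.toBarL_eq_one h4 ha).1 h)) (by rw [← map_mul, hG.toBarL_eq_one h4 ha]; exact h2)
  obtain ⟨d, hd⟩ := hS.exists_mem_II (hG.zs.toBar_ne_one (hG.LZ_move h4 ha) hz.1 hzL) (hG.zs.toBar_sq hz.1 hzL)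
  obtain ⟨g, hg, -⟩ := hS.II_conj hd hc
  obtain ⟨m, rfl⟩ := toBar_surj _ a g
  rw [← map_inv, ← map_mul, ← map_mul, eq_comm, toBar_eq_iff, hG.mem_Ker_LZ h4 ha] at hg
  have hz' := hG.zs.conj z hz.1 m
  refine ⟨_, hz', LZ_le M (mul_mem (mul_mem m.2 hzL) (inv_mem m.2)), ?_⟩
  rw [← hG.zs.inv_eq hz']
  exact hg.2

theorem comm_ZZ {z z' : G} (hz : z ∈ ZZ Z a) (hzM : z ∈ M) (hz' : z' ∈ ZZ Z a) (hzM' : z' ∈ M) :
    z * z' = z' * z := by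
  have h1 := hG.ih_sq h4 ha (mul_mem (mem_LZ hz.1 ⟨hzM, hz.2⟩) (mem_LZ hz'.1 ⟨hzM', hz'.2⟩))
  have h2 := hG.zs.odd_of_sq_mem_Ker ha hz.1 hz'.1 h1
  have h3 := hG.lemC hz.1 hzM h1
  have h5 := Inv.inverts_of_mem_zpowers (Inv.inverts_mul_left (hG.zs.sq z hz.1) (hG.zs.sq z' hz'.1))
    (mul_mem (mem_zpowers (z * z')) (mem_zpowers (z * z')))
  rw [← h3, mul_inv_cancel_right] at h5
  have h6 := RankOne.eq_one_of_odd_orderOf h2 (mul_eq_one_iff_eq_inv.2 h5)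
  rw [← inv_of_sq h6, mul_inv_rev, hG.zs.inv_eq hz.1, hG.zs.inv_eq hz'.1]

theorem exists_A : ∃ A : Subgroup G, ∀ z, z ∈ A ↔ z = 1 ∨ (z ∈ Z ∧ z ∈ M ∧ z • a = a) := by
  refine ⟨⟨⟨⟨{z | z = 1 ∨ (z ∈ Z ∧ z ∈ M ∧ z • a = a)}, ?_⟩, Or.inl rfl⟩, ?_⟩, fun _ => Iff.rfl⟩
  · rintro x y (rfl | hx) (rfl | hy)
    · exact Or.inl (one_mul 1)
    · rw [one_mul]; exact Or.inr hy
    · rw [mul_one]; exact Or.inr hx
    · by_cases h : x = y
      · exact Or.inl (h ▸ hG.zs.sq x hx.1)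
      · have := hG.zs.mul_mem_ZZ' ⟨hx.1, hx.2.2⟩ ⟨hy.1, hy.2.2⟩ h
          (hG.comm_ZZ h4 ha ⟨hx.1, hx.2.2⟩ hx.2.1 ⟨hy.1, hy.2.2⟩ hy.2.1)
        exact Or.inr ⟨this.1, mul_mem hx.2.1 hy.2.1, this.2⟩
  · rintro x (rfl | hx)
    · exact Or.inl inv_one
    · rw [hG.zs.inv_eq hx.1]; exact Or.inr hx

theorem exists_bt : ∃ (A Q : Subgroup G) (k e : ℕ), BT Z M a A Q k e := by
  haveI := finite_Bar (LZ Z M) a
  haveI : Fact (Nat.Prime 2) := ⟨Nat.prime_two⟩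
  obtain ⟨s, hs, hsM⟩ := h4.exists_ZZ
  obtain ⟨A, hA⟩ := hG.exists_A h4 ha
  obtain ⟨t₀, Qb, hS, h2⟩ := hG.ih_barL h4 ha
  obtain ⟨k, e, hk, hq, hc, he, hn⟩ := st_type hS h2
  have horb : orbit 𝐋 a = orbit M a := hG.orbit_LZ h4 ha
  have hone : ∀ {x : 𝐋}, 𝛑 x = 1 ↔ (x : G) ∈ Ker M a := hG.toBarL_eq_one h4 ha
  have heq : ∀ {x y : 𝐋}, 𝛑 x = 𝛑 y ↔ (x : G) * (y : G)⁻¹ ∈ Ker M a := fun {x y} => by
    rw [← mul_inv_eq_one, ← map_inv, ← map_mul, hone]; rfl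
  have hcent : ∀ {l x : G}, l ∈ 𝐋 → x ∈ Ker M a → x * l = l * x := hG.lemC_LZ
  have hst : ∀ m : 𝐋, (m : G) • a = a → 𝛑 m • (⟨a, mem_orbit_self a⟩ : orbit 𝐋 a) = ⟨a, mem_orbit_self a⟩ :=
    fun m hm => Subtype.ext hm
  have hAL : A ≤ 𝐋 := fun z hz => by
    rcases (hA z).1 hz with rfl | hz
    · exact one_mem _
    · exact mem_LZ hz.1 hz.2.1
  have hAa : ∀ z ∈ A, z • a = a := fun z hz => by
    rcases (hA z).1 hz with rfl | hz
    · exact one_smul _ _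
    · exact hz.2.2
  have hA2 : ∀ z ∈ A, z * z = 1 := fun z hz => by
    rcases (hA z).1 hz with rfl | hz
    · exact one_mul _
    · exact hG.zs.sq z hz.1
  have hAK : ∀ z ∈ A, z ∈ Ker M a → z = 1 := fun z hz h => by
    rcases (hA z).1 hz with rfl | hz
    · rfl
    · exact absurd hz.1 (hG.zs.notMem_Ker ha z h)
  have hAn : ∀ g ∈ M, g • a = a → ∀ z ∈ A, g * z * g⁻¹ ∈ A := fun g hg hga z hz => by
    rcases (hA z).1 hz with rfl | hz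
    · simp
    · have := hG.zs.conj_mem_ZZ (a := a) ⟨hz.1, hz.2.2⟩ g
      rw [hga] at this
      exact (hA _).2 (Or.inr ⟨this.1, mul_mem (mul_mem hg hz.2.1) (inv_mem hg), this.2⟩)
  have hlift : ∀ x ∈ 𝐋, x • a = a → x * x ∈ Ker M a → ∃ z ∈ A, x * z ∈ Ker M a := fun x hx hxa h => by
    by_cases h1 : x ∈ Ker M a
    · exact ⟨1, one_mem _, by rwa [mul_one]⟩
    obtain ⟨z, hz, hzM, h3⟩ := hG.ih_lift h4 ha hx h1 h
    refine ⟨z, (hA z).2 (Or.inr ⟨hz, hzM, ?_⟩), h3⟩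
    have := Ker_le_stab M a h3
    rw [mem_stabilizer_iff, mul_smul] at this
    exact smul_left_cancel x (this.trans hxa.symm)
  have hsupA : ∀ x ∈ 𝐋, x • a = a → x * x ∈ Ker M a → x ∈ A ⊔ Ker M a := fun x hx hxa h => by
    obtain ⟨z, hz, h1⟩ := hlift x hx hxa h
    exact (mul_mem_cancel_right (mem_sup_left hz)).1 (mem_sup_right h1)
  have hsupA' : ∀ x : 𝐋, (x : G) ∈ A ⊔ Ker M a → 𝛑 x * 𝛑 x = 1 := fun x hx => by
    obtain ⟨z, hz, y, hy, e⟩ := (mem_sup_of_le_normalizer' (hAL.trans ((LZ_le M).trans (le_norm_Ker M a)))).1 hx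
    rw [← map_mul, hone]
    change (x : G) * x ∈ _
    rw [e, mul_assoc, ← mul_assoc y, hcent (hAL hz) hy, ← mul_assoc, ← mul_assoc, hA2 z hz, one_mul]
    exact mul_mem hy hy
  -- the preimage of `Qb`
  obtain ⟨R, hR⟩ : ∃ R, R = (Qb.comap 𝛑).map (𝐋).subtype := ⟨_, rfl⟩
  have hmem : ∀ x : 𝐋, (x : G) ∈ R ↔ 𝛑 x ∈ Qb := fun x => by
    rw [hR]
    exact ⟨fun ⟨y, hy, e⟩ => (Subtype.ext e : y = x) ▸ hy, fun h => ⟨x, h, rfl⟩⟩
  have hRL : R ≤ 𝐋 := hR ▸ map_subtype_le _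
  have hchar : ∀ x, x ∈ R ↔ x ∈ 𝐋 ∧ x • a = a ∧ ∃ j : ℕ, x ^ 2 ^ j ∈ Ker M a := fun x => by
    constructor
    · intro hx
      have h1 := (hmem ⟨x, hRL hx⟩).1 hx
      refine ⟨hRL hx, congrArg Subtype.val (RankOne.Setup.smul_a_of_mem hS h1), 2, ?_⟩
      have := (Suz.weak hS h2).pow_four _ h1
      rw [← map_pow, hone] at this
      exact this
    · rintro ⟨h1, h3, j, hj⟩
      exact (hmem ⟨x, h1⟩).2 (st_mem_Q hS h2 (hst _ h3) (j := j) (by rw [← map_pow, hone]; exact hj))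
  obtain ⟨Q, hQ⟩ := exists_isSylowOf 2 R
  have hdec : ∀ r ∈ R, ∃ q ∈ Q, ∃ y ∈ Ker M a, r = q * y := by
    intro r hr
    have hRn : R ≤ normalizer ((Ker M a ⊓ R : Subgroup G) : Set G) :=
      le_normalizer_inf (hRL.trans ((LZ_le M).trans (le_norm_Ker M a))) le_normalizer
    obtain ⟨n, hn⟩ := exists_relIndex_pow Nat.prime_two hRn fun x hx => by
      obtain ⟨j, hj⟩ := ((hchar x).1 hx).2.2
      exact ⟨j, hj, pow_mem hx _⟩
    rw [← hQ.sup_eq_of_relIndex_eq_pow inf_le_right hn, sup_comm] at hr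
    obtain ⟨q, hq, y, hy, e⟩ := (mem_sup_of_le_normalizer' (hQ.le.trans hRn)).1 hr
    exact ⟨q, hq, y, hy.1, e⟩
  have hQL : Q ≤ 𝐋 := hQ.le.trans hRL
  have hQn : R ≤ normalizer (Q : Set G) := fun r hr => by
    obtain ⟨q, hq, y, hy, rfl⟩ := hdec r hr
    exact mul_mem (le_normalizer hq) (centralizer_le_normalizer _ fun x hx => (hcent (hQL hx) hy).symm)
  have hQb : ∀ x ∈ Qb, ∃ q : 𝐋, (q : G) ∈ Q ∧ 𝛑 q = x := fun x hx => by
    obtain ⟨m, rfl⟩ := toBar_surj 𝐋 a x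
    obtain ⟨q, hq, y, hy, e⟩ := hdec m ((hmem m).2 hx)
    refine ⟨⟨q, hQL hq⟩, hq, (heq.2 ?_).symm⟩
    change (m : G) * q⁻¹ ∈ _
    rw [e]
    exact conj_mem_of_norm (le_norm_Ker M a (LZ_le M (hQL hq))) hy
  have hQπ : ∀ x (hx : x ∈ Q), 𝛑 ⟨x, hQL hx⟩ ∈ Qb := fun x hx => (hmem ⟨x, hQL hx⟩).1 (hQ.le hx)
  have hQa : ∀ x ∈ Q, x • a = a := fun x hx => ((hchar x).1 (hQ.le hx)).2.1
  -- set-up with respect to a member of `Z` moving `a` to `b`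
  have hW : ∀ b ∈ orbit M a, b ≠ a → ∃ t : 𝐋, Cfsg.IsRankOneSetup (Bar 𝐋 a) (orbit 𝐋 a) ⟨a, mem_orbit_self a⟩
      (𝛑 t) Qb ∧ ∀ w : 𝐋, 𝛑 w ∈ Suz.WW (⟨a, mem_orbit_self a⟩ : orbit 𝐋 a) (𝛑 t) ↔
        (w : G) • b = b ∧ (w : G) ∈ centralizer (A : Set G) := by
    intro b hb hba
    obtain ⟨t, ht, htM, hta⟩ := hG.zs.swap_in' hs hsM (mem_orbit_self a) hb hba.symm
    refine ⟨⟨t, mem_LZ ht htM⟩, RankOne.Setup.change_t hS (hG.zs.toBar_sq ht _)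
      (fun h => hba (hta.symm.trans (congrArg Subtype.val h))), fun w => ⟨fun h => ⟨?_, fun z hz => ?_⟩,
        fun h => ⟨⟨hst _ ?_, Subtype.ext ?_⟩, fun z hz => ?_⟩⟩⟩
    · have : (w : G) • t • a = t • a := congrArg Subtype.val h.1.2
      rwa [hta] at this
    · by_cases h1 : z = 1
      · rw [h1, one_mul, mul_one]
      have h3 := h.2 (𝛑 ⟨z, hAL hz⟩) ⟨hst _ (hAa z hz), fun e => h1 (hAK z hz (hone.1 e)), by
        rw [← map_mul, hone]; change z * z ∈ _; rw [hA2 z hz]; exact one_mem _⟩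
      rw [← map_mul, ← map_mul, heq] at h3
      have hwa : (w : G) • a = a := congrArg Subtype.val h.1.1
      have h5 := hAK _ (mul_mem hz (hAn _ (LZ_le M w.2) hwa _ (inv_mem hz))) (by simpa [mul_assoc] using h3)
      calc z * w = z * (w * z⁻¹ * (w : G)⁻¹) * (w * z) := by group
        _ = w * z := by rw [h5, one_mul]
    · exact hG.zs.fix_of_comm hs (h.2 s ((hA s).2 (Or.inr ⟨hs.1, hsM, hs.2⟩))).symm
    · change (w : G) • t • a = t • a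
      rw [hta, h.1]
    · obtain ⟨m, rfl⟩ := toBar_surj 𝐋 a z
      obtain ⟨y, hy, h3⟩ := hlift m m.2 (congrArg Subtype.val hz.1) (hone.1 (by rw [← hz.2.2, map_mul]))
      have e : 𝛑 m = 𝛑 ⟨y, hAL hy⟩ := heq.2 (by rwa [show (y : G)⁻¹ = y from inv_of_sq (hA2 y hy)])
      change 𝛑 m * 𝛑 w = 𝛑 w * 𝛑 m
      rw [e, ← map_mul, ← map_mul]
      congr 1
      exact Subtype.ext (h.2 y hy)
  refine ⟨A, Q, k, e, ha, hA, ?_, hk, fun z hz hzM x hx => hG.lemC hz hzM hx,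
    fun b hb c hc b' hb' c' hc' => hG.ih_two h4 ha hb hc hb' hc', hQL, hQa, hQ.isPGroup, ?_, ?_, ?_, ?_, ?_,
    fun x hx h => hsupA x (hQL hx) (hQa x hx) h, ?_, ?_, he, ?_, ?_, fun h => ?_, fun h => ?_, ?_, ?_, ?_⟩
  · rw [← hq]
    refine Nat.card_congr (Equiv.ofBijective (fun z : A => (⟨𝛑 ⟨z, hAL z.2⟩,
      RankOne.Setup.mem_Q_of_mul_self hS (hst _ (hAa z z.2)) (hsupA' _ (mem_sup_left z.2)),
      hsupA' _ (mem_sup_left z.2)⟩ : {x : Bar 𝐋 a // x ∈ Qb ∧ x * x = 1})) ⟨fun x y h => ?_, fun x => ?_⟩)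
    · exact Subtype.ext (mul_inv_eq_one.1 (hAK _ (mul_mem x.2 (inv_mem y.2)) (heq.1 (congrArg Subtype.val h))))
    · obtain ⟨x, hx, hx2⟩ := x
      obtain ⟨m, rfl⟩ := toBar_surj 𝐋 a x
      obtain ⟨y, hy, h3⟩ := hlift m m.2 (congrArg Subtype.val (RankOne.Setup.smul_a_of_mem hS hx))
        (hone.1 (by rw [← hx2, map_mul]))
      exact ⟨⟨y, hy⟩, Subtype.ext (heq.2 (by rwa [show (y : G)⁻¹ = y from inv_of_sq (hA2 y hy)])).symm⟩
  · exact hQ.le_of_le_normalizer' (isPGroup_of_sq hA2) (fun z hz => (hchar z).2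
      ⟨hAL hz, hAa z hz, 1, by rw [pow_one, pow_two, hA2 z hz]; exact one_mem _⟩) fun z hz => hQn ((hchar z).2
      ⟨hAL hz, hAa z hz, 1, by rw [pow_one, pow_two, hA2 z hz]; exact one_mem _⟩)
  · intro g hg
    have hgR : g ∈ normalizer (R : Set G) := Transfer.mem_normalizer_of_conj_mem fun x hx => by
      obtain ⟨h1, h3, j, hj⟩ := (hchar x).1 hx
      refine (hchar _).2 ⟨conj_mem_of_norm (hG.zs.le_norm_LZ M hg.1) h1, (stabilizer G a).mul_mem ((stabilizer G a).mul_mem hg.2 h3) ((stabilizer G a).inv_mem hg.2),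
        j, ?_⟩
      rw [conj_pow]
      exact conj_mem_of_norm (le_norm_Ker M a hg.1) hj
    exact Transfer.mem_normalizer_iff_conj_smul_eq.2 (hQ.eq_of_normal (hQ.conj_of_mem_normalizer hgR) hQn).symm
  · intro b hb c hc hba hca
    rw [← horb] at hb hc
    obtain ⟨x, hx, e⟩ := RankOne.Setup.exists_smul_eq_of_ne hS (c := ⟨b, hb⟩) (d := ⟨c, hc⟩)
      (fun e => hba (congrArg Subtype.val e)) (fun e => hca (congrArg Subtype.val e))
    obtain ⟨q, hq, rfl⟩ := hQb x hx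
    exact ⟨q, hq, congrArg Subtype.val e⟩
  · intro x hx b hb hba hxb
    rw [← horb] at hb
    exact hone.1 (RankOne.Setup.eq_one_of_fix hS (hQπ x hx) (c := ⟨b, hb⟩)
      (fun e => hba (congrArg Subtype.val e)) (Subtype.ext hxb))
  · intro x hx z hz
    by_cases h1 : z = 1
    · rw [h1, one_mul, mul_one]
    have h3 := RankOne.Setup.involution_central hS h2 (s := 𝛑 ⟨z, hAL hz⟩) ⟨hst _ (hAa z hz),
      fun e => h1 (hAK z hz (hone.1 e)), hsupA' _ (mem_sup_left hz)⟩ (hQπ x hx)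
    rw [← map_mul, ← map_mul, heq] at h3
    have h5 := hAK _ (mul_mem hz (hAn _ (LZ_le M (hQL hx)) (hQa x hx) _ (inv_mem hz))) (by simpa [mul_assoc] using h3)
    calc x * z = z * (x * z⁻¹ * x⁻¹) * (x * z) := by rw [h5, one_mul]
      _ = z * x := by group
  · intro x hx
    refine hsupA _ (hQL (mul_mem hx hx)) (hQa _ (mul_mem hx hx)) ?_
    have := (Suz.weak hS h2).pow_four _ (hQπ x hx)
    rw [← map_pow, hone] at this
    rwa [show x * x * (x * x) = x ^ 4 by simp only [pow_succ, pow_zero, one_mul, mul_assoc]]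
  · intro x hx hxa h
    obtain ⟨q, hq, y, hy, rfl⟩ := hdec x ((hchar x).2 ⟨hx, hxa, h⟩)
    exact mul_mem (mem_sup_left hq) (mem_sup_right hy)
  · rw [← hc, ← RankOne.Setup.card_omega hS, Nat.card_coe_set_eq, horb]
  · intro h
    obtain ⟨x', hx', y', hy', hxy⟩ := hn h
    obtain ⟨x, hx, rfl⟩ := hQb x' hx'
    obtain ⟨y, hy, rfl⟩ := hQb y' hy'
    refine ⟨x, hx, y, hy, fun h => hxy ?_⟩
    rw [← commutatorElement_eq_one_iff_mul_comm, ← map_commutatorElement, hone]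
    exact h
  · exact (st_two hS h2 hq (h ▸ hc) (hn (by omega))).1
  · rw [← (st_two hS h2 hq (h ▸ hc) (hn (by omega))).2]
    obtain ⟨F, _, _, _, ⟨Y⟩⟩ := Suz.exists_ZF hS h2
    have htop : Suz.ZF.LL t₀ Qb = ⊤ := by
      rw [eq_top_iff]
      rintro x -
      obtain ⟨m, rfl⟩ := toBar_surj 𝐋 a x
      have : 𝐋 ≤ ((Suz.ZF.LL t₀ Qb).comap 𝛑).map (𝐋).subtype := (closure_le _).2 fun z hz =>
        ⟨⟨z, mem_LZ hz.1 hz.2⟩, mem_comap.2 <| mem_of_sq_of_odd (K := ⊤) (by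
          rw [normalizer_eq_top_iff.2 Y.LL_normal]) (by rw [relIndex_top_right]; exact Suz.ZF.LL_odd_index hS)
          trivial (by rw [hG.zs.toBar_sq hz.1]; exact one_mem _), rfl⟩
      obtain ⟨y, hy, e⟩ := this m.2
      exact (Subtype.ext e : y = m) ▸ hy
    rw [htop, card_top, ← card_top (G := Bar 𝐋 a), ← MonoidHom.range_eq_top.2 (toBar_surj 𝐋 a), ← index_ker,
      relIndex]
    congr 1
    ext x
    rw [mem_subgroupOf, MonoidHom.mem_ker, hone]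
  · intro h b hb hba
    obtain ⟨t, hS', hw⟩ := hW b hb hba
    obtain ⟨w, h1, h3⟩ := st_W_ex hS' h2 (by rw [hc, hq, h])
    obtain ⟨w, rfl⟩ := toBar_surj 𝐋 a w
    exact ⟨w, w.2, ((hw w).1 h1).1, ((hw w).1 h1).2, fun h => h3 (hone.2 h)⟩
  · intro h b hb hba w hwL hwb hwA h0 x hx h1
    obtain ⟨t, hS', hw⟩ := hW b hb hba
    have := st_W_fpf hS' h2 (by rw [hc, hq, h]) (hn (by omega)) ((hw ⟨w, hwL⟩).2 ⟨hwb, hwA⟩)
      (fun e => h0 (hone.1 e)) (hQπ x hx) (by rw [← map_commutatorElement]; exact hsupA' _ h1)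
    rw [← map_mul, hone] at this
    exact hsupA x (hQL hx) (hQa x hx) this
  · intro b hb hba w hwL hwb hwA h0 p hp h1
    obtain ⟨t, hS', hw⟩ := hW b hb hba
    exact st_W_cop hS' h2 hq hk ((hw ⟨w, hwL⟩).2 ⟨hwb, hwA⟩) (fun e => h0 (hone.1 e)) hp
      (by rw [← map_pow, hone]; exact h1)

end

theorem exists_kt {A Q : Subgroup G} {k e : ℕ} (h : BT Z M a A Q k e)
    {b : Ω} (hb : b ∈ orbit M a) (hab : a ≠ b) {t : G} (ht : t ∈ Z) (htM : t ∈ M) (hta : t • a = b) :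
    ∃ K : Subgroup G, KT Z M a b A K t := by
  haveI := finite_Bar (LZ Z M) a
  have h4 := h.four' hG.zs
  have ha := h.move
  obtain ⟨s, hs, hsM⟩ := h4.exists_ZZ
  obtain ⟨t₀, Qb, hS₀, h2⟩ := hG.ih_barL h4 ha
  have hone : ∀ {x : 𝐋}, 𝛑 x = 1 ↔ (x : G) ∈ Ker M a := hG.toBarL_eq_one h4 ha
  have heq : ∀ {x y : 𝐋}, 𝛑 x = 𝛑 y ↔ (x : G) * (y : G)⁻¹ ∈ Ker M a := fun {x y} => by
    rw [← mul_inv_eq_one, ← map_inv, ← map_mul, hone]; rfl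
  have hS := RankOne.Setup.change_t hS₀ (hG.zs.toBar_sq ht (mem_LZ ht htM))
    (fun e => hab ((congrArg Subtype.val e).symm.trans hta))
  obtain ⟨κ₀, hκ₀, hgen⟩ := RankOne.Setup.exists_K_gen hS h2
  have hKL : ∀ {x : G}, x ∈ KK G a b t → x ∈ M → x ∈ 𝐋 := hG.zs.mem_LZ_of_KK hab ht htM hta
  have hbar : ∀ {x : G} (hx : x ∈ KK G a b t) (hxM : x ∈ M), 𝛑 ⟨x, hKL hx hxM⟩ ∈ invertedBy
      (Suz.DD (⟨a, mem_orbit_self a⟩ : orbit 𝐋 a) (𝛑 ⟨t, mem_LZ ht htM⟩)) (𝛑 ⟨t, mem_LZ ht htM⟩) :=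
    fun {x} hx hxM => ⟨⟨Subtype.ext (FF_le a b hx.1).1, Subtype.ext (by
      change x • t • a = t • a
      rw [hta]; exact (FF_le a b hx.1).2)⟩, by
      rw [← map_inv, ← map_mul, ← map_mul, ← map_inv]
      congr 1
      exact Subtype.ext hx.2⟩
  obtain ⟨l, rfl⟩ := toBar_surj 𝐋 a κ₀
  have hla : (l : G) • a = a := congrArg Subtype.val hκ₀.1.1
  obtain ⟨κ, hκ, hκM, hκs⟩ := hG.zs.K_trans_in hab ht htM hta hs hsM (s' := l * s * (l : G)⁻¹)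
    (by have := hG.zs.conj_mem_ZZ hs l; rwa [hla] at this)
    (mul_mem (mul_mem (LZ_le M l.2) hsM) (inv_mem (LZ_le M l.2)))
  have hsL := mem_LZ hs.1 hsM
  have e0 : 𝛑 ⟨κ, hKL hκ hκM⟩ = 𝛑 l := by
    apply inv_injective
    refine RankOne.Setup.K_conj_inj hS (s := 𝛑 ⟨s, hsL⟩) (fun e => hG.zs.notMem_Ker ha s (hone.1 e) hs.1)
      (hG.zs.toBar_sq hs.1 hsL) (Subtype.ext hs.2) (RankOne.invBy_inv (hbar hκ hκM)) (RankOne.invBy_inv hκ₀) ?_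
    simp only [inv_inv, ← map_inv, ← map_mul]
    congr 1
    exact Subtype.ext hκs
  have hmem : ∀ x, x ∈ zpowers κ ↔ x ∈ M ∧ x ∈ KK G a b t := fun x => by
    constructor
    · intro hx
      obtain ⟨n, rfl⟩ := (mem_powers_iff_mem_zpowers (x := κ) (y := x)).2 hx
      exact ⟨pow_mem hκM n, RankOne.invBy_pow hκ n⟩
    · rintro ⟨hxM, hx⟩
      obtain ⟨n, hn⟩ := hgen _ (hbar hx hxM)
      rw [← e0, ← map_pow, heq] at hn
      have hn' : x * (κ ^ n)⁻¹ ∈ Ker M a := hn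
      have h1 := h.cent _ (hG.zs.conj s hs.1 (κ ^ n))
        (mul_mem (mul_mem (pow_mem hκM n) hsM) (inv_mem (pow_mem hκM n))) _ hn'
      rw [hG.zs.K_inj hab ht hta hs hx (RankOne.invBy_pow hκ n) (by
        calc x * s * x⁻¹ = x * (κ ^ n)⁻¹ * (κ ^ n * s * (κ ^ n)⁻¹) * (x * (κ ^ n)⁻¹)⁻¹ := by group
          _ = _ := by rw [h1]; group)]
      exact pow_mem (mem_zpowers κ) n
  have hZ : ∀ z ∈ A, z ≠ 1 → z ∈ ZZ Z a ∧ z ∈ M := fun z hz h1 => by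
    obtain ⟨z1, z2, z3⟩ := ((h.memA z).1 hz).resolve_left h1
    exact ⟨⟨z1, z3⟩, z2⟩
  have htr : ∀ z ∈ A, ∀ z' ∈ A, z ≠ 1 → z' ≠ 1 → ∃ x ∈ zpowers κ, x * z * x⁻¹ = z' := fun z hz z' hz' h1 h1' => by
    obtain ⟨x, x1, x2, x3⟩ := hG.zs.K_trans_in hab ht htM hta (hZ z hz h1).1 (hZ z hz h1).2 (hZ z' hz' h1').1
      (hZ z' hz' h1').2
    exact ⟨x, (hmem x).2 ⟨x2, x1⟩, x3⟩
  have hsA : s ∈ A := (h.memA s).2 (Or.inr ⟨hs.1, hsM, hs.2⟩)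
  refine ⟨zpowers κ, hb, hab, ht, htM, hta, hmem, inferInstance, ?_, fun x hx => hKL ((hmem x).1 hx).2
    ((hmem x).1 hx).1, fun d hd => ?_, htr, fun x hx z hz h1 e => hG.zs.K_eq_one hab ht hta (hZ z hz h1).1
    ((hmem x).1 hx).2 e, fun x hx h1 c hc hxc => ?_⟩
  · have hconj : ∀ x ∈ zpowers κ, x * s * x⁻¹ ∈ A := fun x hx => by
      have := hG.zs.conj_mem_ZZ hs x
      rw [(FF_le a b ((hmem x).1 hx).2.1).1] at this
      exact (h.memA _).2 (Or.inr ⟨this.1, mul_mem (mul_mem ((hmem x).1 hx).1 hsM) (inv_mem ((hmem x).1 hx).1),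
        this.2⟩)
    rw [← Finite.card_option]
    refine Nat.card_congr (Equiv.ofBijective (fun x : Option (zpowers κ) =>
      x.elim (1 : A) fun y => ⟨y * s * (y : G)⁻¹, hconj y y.2⟩) ⟨?_, fun z => ?_⟩)
    · rintro (_ | x) (_ | y) e
      · rfl
      · exact absurd (congrArg Subtype.val e).symm (hG.zs.ne_one _ (hG.zs.conj s hs.1 y))
      · exact absurd (congrArg Subtype.val e) (hG.zs.ne_one _ (hG.zs.conj s hs.1 x))
      · exact congrArg some (Subtype.ext (hG.zs.K_inj hab ht hta hs ((hmem x).1 x.2).2 ((hmem y).1 y.2).2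
          (congrArg Subtype.val e)))
    · by_cases h1 : z = 1
      · exact ⟨none, h1.symm⟩
      · obtain ⟨x, hx, e⟩ := htr s hsA z z.2 (hG.zs.ne_one s hs.1) fun e => h1 (Subtype.ext e)
        exact ⟨some ⟨x, hx⟩, Subtype.ext e⟩
  · have t2 := hG.zs.sq t ht
    have htb : t • b = a := by rw [← hta, smul_smul_of_sq t2]
    have hd' : d⁻¹ ∈ D2 G a b := inv_mem hd.2
    have hy : d * t * d⁻¹ * t ∈ zpowers κ := (hmem _).2 ⟨mul_mem (mul_mem (mul_mem hd.1 htM) (inv_mem hd.1)) htM,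
      (hG.zs.mem_KK hab ht hta).2 ⟨by rw [mul_smul, mul_smul, mul_smul, hta, hd'.2, htb, hd.2.1],
        by rw [mul_smul, mul_smul, mul_smul, htb, hd'.1, hta, hd.2.2], by
          have := hG.zs.conj _ (hG.zs.conj t ht d) t
          rwa [hG.zs.inv_eq ht, mul_assoc] at this⟩⟩
    rw [← inv_mem_iff]
    refine Transfer.mem_normalizer_of_conj_mem fun x hx => (hmem _).2 ⟨?_, (hG.zs.mem_KK hab ht hta).2 ⟨?_, ?_, ?_⟩⟩
    · exact mul_mem (mul_mem (inv_mem hd.1) ((hmem x).1 hx).1) (inv_mem (inv_mem hd.1))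
    · exact (mul_mem (mul_mem hd' (FF_le a b ((hmem x).1 hx).2.1)) (inv_mem hd')).1
    · exact (mul_mem (mul_mem hd' (FF_le a b ((hmem x).1 hx).2.1)) (inv_mem hd')).2
    · have h1 := ((hG.zs.mem_KK hab ht hta).1 ((hmem _).1 (mul_mem (inv_mem hy) hx)).2).2.2
      rw [← mul_assoc, RankOne.invBy_t_mul_inv ((hmem _).1 hy).2, mul_assoc _ t t, t2, mul_one] at h1
      have := hG.zs.conj _ h1 d⁻¹
      simpa [mul_assoc] using this
  · by_contra! hne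
    obtain ⟨x1, x2⟩ := (hmem x).1 hx
    have := hG.ih_inv h4 ha ht htM x1 x2.2 (odd_orderOf_of_mem (odd_Op _) x2.1) (mem_orbit_self a) hb hc hab
      hne.1.symm hne.2.symm (FF_le a b x2.1).1 (FF_le a b x2.1).2 hxc
    exact h1 (hG.zs.K_eq_one hab ht hta hs x2 (h.cent s hs.1 hsM x this))

end MD

end Cfsg.Agent.Asc
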