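import Mathlib
import Cfsg.Agent.Hq.A
import Cfsg.Agent.Hq.MD
import Cfsg.Agent.S1251

/-! Strongly closed sets whose involutions fix exactly one point, in 2-rank at least two. -/

set_option autoImplicit false
set_option linter.unusedSectionVars false
set_option linter.style.haveILetI false

namespace Cfsg.Agent.Hq

open Subgroup MulAction Cfsg.Agent.GW Cfsg.Agent.LocalEven Cfsg.Agent.BG Cfsg.Agent.Gp Cfsg.Agent.Asc
open scoped commutatorElement

universe u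

local instance fact2C : Fact (Nat.Prime 2) := ⟨Nat.prime_two⟩

theorem ft_cases {Γ Δ : Type*} [Group Γ] [Finite Γ] [MulAction Γ Δ] {L A Q K : Subgroup Γ} {a b : Δ} {k e : ℕ}
    (h : FT L A Q K a b k e) {X : Set Γ} (hX : CS X) (hA : ∀ z ∈ A, z ∈ X)
    (hs : ∀ x ∈ X, x • a = a → x • b = b → x = 1) :
    (∀ x ∈ X, x • a = a → x ∈ A) ∨ ((∀ x ∈ X, x • a = a → x ∈ Q) ∧ ∀ x ∈ Q, x ∈ X) := by
  have hn := hX.norm_sub h.Q_two
  have hP : ∀ x ∈ X, x • a = a → IsPGroup 2 (Q ⊔ zpowers x : Subgroup Γ) := fun x hx xa =>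
    Te.sup (hX.two x hx) h.Q_two (h.Q_norm x xa)
  by_cases hU : hX.sub h.Q_two = Q
  · have hQ : ∀ x ∈ Q, x ∈ X := fun x hx => (hU.ge hx).1
    refine Or.inr ⟨fun x hx xa => ?_, hQ⟩
    obtain ⟨s, s1, s2⟩ := h.exists_Q_mul xa
    rw [eq_inv_of_mul_eq_one_right (hs _ (hX.mul _ (hP x hx xa) s (hQ s s1) x hx (mem_sup_left s1)
      (mem_sup_right (mem_zpowers x))) (by rw [mul_smul, xa, h.Q_fix s1]) s2)]
    exact inv_mem s1
  have hUA := (h.irr' (U := hX.sub h.Q_two) (fun z hz => ⟨hA z hz, h.A_le hz⟩) (hX.sub_le _)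
    (fun x hx => hn (h.Q_norm x (h.K_a x hx))) fun w _ hw => hn (h.Q_norm w (h.cent_fix w hw))).resolve_right hU
  obtain ⟨q, hq, hqA⟩ := SetLike.exists_of_lt (lt_of_le_of_ne h.A_le (hUA ▸ hU))
  refine Or.inl fun x hx xa => hUA.le ⟨hx, ?_⟩
  obtain ⟨s, s1, s2⟩ := h.exists_Q_mul xa
  have h1 : ∀ y ∈ Q, ⁅s * x, y⁆ ∈ A := fun y hy => by
    have : ⁅x, y⁆ ∈ A := hUA.le ⟨by
      rw [commutatorElement_def, mul_assoc, mul_assoc, ← mul_assoc y]
      exact hX.mul _ (hP x hx xa) x hx _ (hX.conj _ (hX.inv hx) y) (mem_sup_right (mem_zpowers x))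
        (conj_mem' (mem_sup_left hy) (inv_mem (mem_sup_right (mem_zpowers x)))),
      mul_mem (conj_mem_of_mem_normalizer (h.Q_norm x xa) hy) (inv_mem hy)⟩
    rw [show ⁅s * x, y⁆ = s * ⁅x, y⁆ * s⁻¹ * ⁅s, y⁆ by simp only [commutatorElement_def]; group]
    exact mul_mem (conj_mem_of_mem_normalizer (h.A_norm s (h.Q_fix s1)) this) (h.comm_mem s1 hy)
  have h2 := h.w6' s2 (fun z hz => ?_) h1
  · rw [eq_inv_of_mul_eq_one_right h2]; exact inv_mem s1
  by_cases z1 : z = 1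
  · simp [z1]
  obtain ⟨κ, hκ, rfl⟩ := h.trans _ (h.Q_sq q hq) z hz (fun e => hqA (h.Q_inv q hq e)) z1
  have h3 := conj_mem_of_mem_normalizer (h.Q_norm κ (h.K_a κ hκ)) hq
  have h4 := h.sq_mul h3 (h1 _ h3)
  rw [h.Q_mul_comm h3 (h1 _ h3), commutatorElement_def, inv_mul_cancel_right] at h4
  rw [show κ * (q * q) * κ⁻¹ = κ * q * κ⁻¹ * (κ * q * κ⁻¹) by group]
  conv_lhs => rw [← h4]
  group

variable {G : Type u} {Ω : Type*} [Group G] [Finite G] [MulAction G Ω] {X : Set G}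

/-- The involutions of `X`. -/
def ZI (X : Set G) : Set G := {x | x ∈ X ∧ x ≠ 1 ∧ x * x = 1}

theorem core (hX : CS X) (hc : closure X = ⊤) (hO : pPrimeCore 2 G = ⊥) (hG : ZS G Ω (ZI X))
    (h4 : FourZ (ZI X) ⊤) : (∀ x ∈ X, x * x = 1) ∨ ∀ x : G, Te x → x ∈ X := by
  obtain ⟨T⟩ : Nonempty (Sylow 2 G) := inferInstance
  have hT := isSylowIn_top T
  obtain ⟨a, hTa⟩ := hG.exists_fix_two T.2
  obtain ⟨b, hab⟩ := hG.exists_ne a
  have ho : ∀ c, c ∈ orbit (⊤ : Subgroup G) a := fun c =>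
    let ⟨g, e⟩ := hG.trans a c; ⟨⟨g, trivial⟩, e⟩
  have ha : ¬ ⊤ ≤ stabilizer G a := fun h => by
    obtain ⟨g, e⟩ := hG.trans a b
    exact hab ((h (mem_top g)).symm.trans e)
  have h1 : ∀ x ∈ X, x • a = a → x • b = b → x = 1 := fun x hx xa xb => by_contra fun x1 => by
    obtain ⟨t, ht, e, t1, t2⟩ := hX.exists_inv hx x1
    exact hG.notMem_of_fix hab (zpowers_le.2 (show x ∈ stabilizer G a from xa) e)
      (zpowers_le.2 (show x ∈ stabilizer G b from xb) e) ⟨ht, t1, t2⟩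
  have h2 : ∀ x ∈ X, x ∈ Ben.Ker ⊤ a → x = 1 := fun x hx h =>
    h1 x hx (Ben.Ker_fix h (ho a)) (Ben.Ker_fix h (ho b))
  haveI : (Ben.Ker (⊤ : Subgroup G) a).Normal := normalizer_eq_top_iff.1 (top_le_iff.1 (Ben.le_norm_Ker ⊤ a))
  have h3 : ∀ g : G, g ∈ 𝐂(Ben.Ker (⊤ : Subgroup G) a) := fun g => by
    refine (closure_le _).2 (fun x hx => ?_) (hc ▸ mem_top g)
    obtain ⟨m, -, e⟩ := hX.exists_conj hT hx (mem_top x)
    simpa [mul_assoc] using Normal.conj_mem inferInstance _ (S1251.result T _ (hX.closed T.2) _ le_normalizer_of_normal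
      (by rw [oddCore, Core.pPrimeCore_eq_subgroupOf, hO, bot_subgroupOf])
      (eq_bot_iff.2 fun y hy => h2 y hy.1.1 hy.2) ⟨hX.conj x hx m, e⟩) m⁻¹
  have hD : MD (ZI X) ⊤ a := ⟨hG, fun z _ _ x hx => h3 z x hx⟩
  obtain ⟨A, Q, k, e, hB⟩ := hD.exists_bt (by rw [top_inf_eq]; exact hG.fourZ_at h4 a) ha
  obtain ⟨t, ht, hta⟩ := hG.toZW.exists_swap hab
  obtain ⟨K, hK⟩ := hD.exists_kt hB (ho b) hab ht trivial hta
  haveI := Ben.finite_Bar (⊤ : Subgroup G) a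
  have hF := hB.ft hG hK
  set f := (Ben.toBar ⊤ a).comp (topEquiv (G := G)).symm.toMonoidHom
  have hf : Function.Surjective f := (Ben.toBar_surj ⊤ a).comp topEquiv.symm.surjective
  have hk : ∀ x, f x = 1 ↔ x ∈ Ben.Ker ⊤ a := fun x => Ben.toBar_eq_one
  have hfix : ∀ (x : G) (c : orbit (⊤ : Subgroup G) a), f x • c = c ↔ x • (c : Ω) = c := fun x c => toBar_fix
  have hcj : ∀ x ∈ X, ∃ g, (g * x * g⁻¹) • a = a := fun x hx =>
    let ⟨m, _, e⟩ := hX.exists_conj hT hx (mem_top x); ⟨m, hTa e⟩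
  rcases ft_cases hF (hX.image hf) (fun z hz => by
    obtain ⟨m, hm, rfl⟩ := of_mem_im hz
    refine ⟨m, ?_, rfl⟩
    rcases (hB.memA m).1 hm with e | e
    · exact e ▸ hX.one
    · exact e.1.1) (by
    rintro _ ⟨x, hx, rfl⟩ xa xb
    rw [h1 x hx ((hfix _ _).1 xa) ((hfix _ _).1 xb), map_one]) with h5 | ⟨h5, h6⟩
  · refine Or.inl fun x hx => ?_
    obtain ⟨g, hg⟩ := hcj x hx
    have h6 := hF.A_sq _ (h5 _ ⟨_, hX.conj x hx g, rfl⟩ ((hfix _ _).2 hg))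
    rw [← map_mul, hk] at h6
    have := h2 _ (by simpa [pow_two] using hX.pow (hX.conj x hx g) 2) h6
    simpa [mul_assoc] using congrArg (fun y => g⁻¹ * y * g) this
  refine Or.inr fun x hx => fin hX hc hT (fun t ht => ?_) hx
  have h7 : closure X ≤ (im ⊤ a (LZ (ZI X) ⊤)).comap f := (closure_le _).2 fun x hx => by
    obtain ⟨g, hg⟩ := hcj x hx
    simpa [mul_assoc] using hF.L_norm.conj_mem _
      (hF.Q_le (h5 _ ⟨_, hX.conj x hx g, rfl⟩ ((hfix _ _).2 hg))) (f g)⁻¹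
  obtain ⟨j, hj⟩ := isPGroup_iff_mem.1 T.2 t ht
  obtain ⟨s, hs, e⟩ := h6 _ (hF.L_two _ (h7 (hc ▸ mem_top t)) ((hfix _ _).2 (hTa ht)) ⟨j, by
    rw [← map_pow, hj, map_one]⟩)
  have h8 : ∀ g, s⁻¹ * t * g = g * (s⁻¹ * t) := fun g =>
    h3 g _ ((hk _).1 (by rw [map_mul, map_inv, e, inv_mul_cancel]))
  obtain ⟨i, hi⟩ := hX.exists_pow hs
  refine ⟨s, hs, hT.mem_of_mem_normalizer (mem_top s) hi ?_, fun g => by rw [← h8 g]; simp⟩
  have := mul_mem (le_normalizer ht) (inv_mem (centralizer_le_normalizer (T : Set G)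
    (fun g _ => (h8 g).symm : s⁻¹ * t ∈ _)))
  simpa using this

theorem rank_two (hX : CS X) (hG : ZS G Ω (ZI X)) (h4 : FourZ (ZI X) ⊤) :
    (∀ t ∈ closure X, t * t = 1 → t ∈ X) ∧ ((∀ x ∈ X, x * x = 1) ∨ ∀ x ∈ closure X, Te x → x ∈ X) := by
  have hX1 := hX.comap (closure X).subtype_injective
  have e1 : ZI ((closure X).subtype ⁻¹' X) = (↑) ⁻¹' ZI X := Set.ext fun x =>
    and_congr_right' (and_congr Subtype.ext_iff.not Subtype.ext_iff)
  have hW := hG.toZW.restrict (K := closure X) fun z hz => subset_closure hz.1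
  have hG1 : ZS (closure X) Ω (ZI ((closure X).subtype ⁻¹' X)) := e1 ▸
    ⟨hW.trans, hW.nontriv, hW.nonempty, hW.conj, hW.ne_one, hW.sq, hW.fix, hW.uniq, fun x hx y hy hne hc =>
      hG.prod x hx y hy (fun e => hne (Subtype.ext e)) (congrArg Subtype.val hc)⟩
  have h5 : FourZ (ZI ((closure X).subtype ⁻¹' X)) ⊤ := by
    obtain ⟨x, hx, y, hy, -, -, h1, h2⟩ := h4
    exact e1 ▸ ⟨⟨x, subset_closure hx.1⟩, hx, ⟨y, subset_closure hy.1⟩, hy, trivial, trivial,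
      fun e => h1 (congrArg Subtype.val e), Subtype.ext h2⟩
  have hk := odd_core (G := closure X)
  have hO : ∀ x ∈ pPrimeCore 2 (closure X), toPermHom (closure X) Ω x = 1 := fun g hg => Equiv.ext fun c => by
    obtain ⟨x, hx, y, hy, h1, h2, h3, h6⟩ := hG1.fourZ_at h5 c
    exact hG1.fix_of_four Inv.odd_card_oddCore ⟨hx, h1⟩ ⟨hy, h2⟩ h3 h6 (le_normalizer_of_normal (mem_top _))
      (le_normalizer_of_normal (mem_top _)) hg
  letI := MulAction.compHom Ω (QuotientGroup.lift _ _ hO)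
  set f := QuotientGroup.mk' (pPrimeCore 2 (closure X))
  have hf : Function.Surjective f := QuotientGroup.mk'_surjective _
  have hsq : ∀ x ∈ (closure X).subtype ⁻¹' X, f x * f x = 1 → x * x = 1 := fun x hx h =>
    eq_of_odd hk (hX1.two x hx) (mul_mem (mem_zpowers x) (mem_zpowers x)) (one_mem _) (by rw [map_mul, h, map_one])
  have hG2 := hG1.map hf fun _ _ => rfl
  have e2 : f '' ZI ((closure X).subtype ⁻¹' X) = ZI (f '' ((closure X).subtype ⁻¹' X)) := by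
    ext y
    refine ⟨fun h => ⟨Set.image_mono (fun _ h => h.1) h, hG2.ne_one y h, hG2.sq y h⟩, ?_⟩
    rintro ⟨⟨x, hx, rfl⟩, h1, h2⟩
    exact ⟨x, ⟨hx, fun e => h1 (by rw [e, map_one]), hsq x hx h2⟩, rfl⟩
  have h6 : FourZ (f '' ZI ((closure X).subtype ⁻¹' X)) ⊤ := by
    obtain ⟨x, hx, y, hy, -, -, h1, h2⟩ := h5
    exact ⟨_, ⟨x, hx, rfl⟩, _, ⟨y, hy, rfl⟩, trivial, trivial, fun e => h1 (eq_of_odd hk
      (isPGroup_four hx.2.2 hy.2.2 h2) (mem_sup_left (mem_zpowers x)) (mem_sup_right (mem_zpowers y)) e),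
      by rw [← map_mul, h2, map_mul]⟩
  rw [e2] at hG2 h6
  have hX2 := hX1.image hf
  have hc := closure_red X hf
  have h0 := Core.pPrimeCore_quotient_pPrimeCore (G := closure X) 2
  have up : ∀ x (hx : x ∈ closure X), Te x → f ⟨x, hx⟩ ∈ f '' ((closure X).subtype ⁻¹' X) → x ∈ X :=
    fun x hx h e => mem_of_odd hX1 hk (x := ⟨x, hx⟩) ((h.comap_of_injective _ (closure X).subtype_injective).to_le
      (zpowers_le.2 (mem_zpowers x))) e
  rcases core hX2 hc h0 hG2 h6 with h | h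
  · refine ⟨fun t ht t2 => up t ht (pgroup_zp t2) ?_, Or.inl fun x hx => congrArg Subtype.val
      (hsq ⟨x, subset_closure hx⟩ hx (h _ ⟨_, hx, rfl⟩))⟩
    obtain ⟨T, hT⟩ := exists_isSylowIn 2 (⊤ : Subgroup (closure X ⧸ pPrimeCore 2 (closure X)))
    have t3 : f ⟨t, ht⟩ * f ⟨t, ht⟩ = 1 := by rw [← map_mul]; exact (congrArg f (Subtype.ext t2)).trans f.map_one
    obtain ⟨g, -, e⟩ := Te.exists_conj (pgroup_zp t3) hT (mem_top _)
    have := (GsD.SA.main ⟨hT, hX2.sub_le hT.pgrp, (hX2.closed _).2, fun a ha b hb =>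
      Gs.comm_of_sq (E := hX2.sub hT.pgrp) (fun c hc => h c hc.1) ha hb⟩ h0 fun N hN hle => eq_top_iff.2 (hc ▸ (closure_le _).2 fun x hx => by
        obtain ⟨m, -, e⟩ := hX2.exists_conj hT hx (mem_top x)
        simpa [mul_assoc] using hN.conj_mem _ (hle ⟨hX2.conj x hx m, e⟩) m⁻¹)).2.2.1
    exact hX2.conj' g (this.ge (mem_sup_right (subset_closure ⟨e, by rw [pow_two, Gs.conj_sq t3]⟩))).1
  · have := fun x (hx : x ∈ closure X) (h2 : Te x) => up x hx h2 (h _ (Te.map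
      ((h2.comap_of_injective _ (closure X).subtype_injective).to_le (zpowers_le.2 (mem_zpowers x))) f))
    exact ⟨fun t ht t2 => this t ht (pgroup_zp t2), Or.inr this⟩

end Cfsg.Agent.Hq
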