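import Mathlib
import Cfsg.Agent.Hq.B

/-! A strongly closed 2-subgroup with one involution is a Sylow subgroup of its normal closure. -/

set_option autoImplicit false
set_option linter.unusedSectionVars false
set_option linter.style.haveILetI false

namespace Cfsg.Agent.Hq

open Subgroup Cfsg.Agent.GW Cfsg.Agent.LocalEven Cfsg.Agent.BG Cfsg.Agent.Gs Cfsg.Agent.Gp
open scoped commutatorElement

universe u

variable {G H : Type u} [Group G] [Finite G] [Group H] [Finite H] {X : Set G} {A B D P V T : Subgroup G}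
  {x y z g u w c s : G} {π : G →* H}

local instance fact2D : Fact (Nat.Prime 2) := ⟨Nat.prime_two⟩

theorem pow_cent_cyc (hA : IsPGroup 2 A) (hc : IsCyclic A) (hg : g ∈ 𝐍(A)) : ∃ k, g ^ 2 ^ k ∈ 𝐂(A) := by
  obtain ⟨k, hk⟩ := IsPGroup.iff_card.1 hA
  have h1 : (A.normalizerMonoidHom ⟨g, hg⟩) ^ 2 ^ k = 1 := by
    refine orderOf_dvd_iff_pow_eq_one.1 ((_root_.orderOf_dvd_natCard _).trans ?_)
    rw [IsCyclic.card_mulAut, hk]
    rcases k with _ | k
    · simp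
    · rw [Nat.totient_prime_pow_succ Nat.prime_two, pow_succ]
      exact mul_dvd_mul_left _ (one_dvd 2)
  rw [← map_pow] at h1
  exact ⟨k, fun a ha => (mul_inv_eq_iff_eq_mul.1 (congrArg (fun f : MulAut A => (f ⟨a, ha⟩ : G)) h1)).symm⟩

theorem conj_pow_eq (hc : g * c = c * g) (h : g * s * g⁻¹ = c * s) (n : ℕ) : g ^ n * s * (g ^ n)⁻¹ = c ^ n * s := by
  induction n with
  | zero => simp
  | succ n ih =>
    rw [pow_succ', mul_inv_rev, show g * g ^ n * s * ((g ^ n)⁻¹ * g⁻¹) = g * (g ^ n * s * (g ^ n)⁻¹) * g⁻¹ by group,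
      ih, ← mul_assoc, (Commute.pow_right hc n).eq, pow_succ, mul_assoc (c ^ n), mul_assoc (c ^ n), h, mul_assoc]

theorem le_of_comm {N K : Subgroup G} (hT : T ≤ N) (hK : N ≤ 𝐍(K)) (h : ∀ n ∈ N, ∃ k, n ^ 2 ^ k ∈ K)
    (hle : T ≤ (K ⊓ N) ⊔ ⁅T, N⁆) : T ≤ K := by
  haveI : (K.subgroupOf N).Normal := normal_subgroupOf_of_le_normalizer hK
  haveI : Group.IsNilpotent (N ⧸ K.subgroupOf N) := IsPGroup.isNilpotent (p := 2) fun x => by
    obtain ⟨x, rfl⟩ := QuotientGroup.mk_surjective x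
    obtain ⟨j, hj⟩ := h x x.2
    exact ⟨j, by rw [← QuotientGroup.mk_pow, QuotientGroup.eq_one_iff]; exact hj⟩
  have h1 : T.subgroupOf N ≤ K.subgroupOf N ⊔ ⁅T.subgroupOf N, ⊤⁆ := by
    rw [← map_le_map_iff_of_injective N.subtype_injective, Subgroup.map_sup, map_commutator,
      map_subgroupOf_eq_of_le hT, ← MonoidHom.range_eq_map, range_subtype, subgroupOf_map_subtype]
    exact hle
  have h2 := map_mono (f := QuotientGroup.mk' (K.subgroupOf N)) h1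
  rw [Subgroup.map_sup, QuotientGroup.map_mk'_self, bot_sup_eq, map_commutator] at h2
  have h3 := Transfer.eq_bot_of_le_commutator_top (h2.trans (commutator_mono le_rfl le_top))
  rw [Subgroup.map_eq_bot_iff, QuotientGroup.ker_mk'] at h3
  exact fun t ht => h3 (show (⟨t, hT ht⟩ : N) ∈ T.subgroupOf N from ht)

namespace QS
variable (h : QS X z π)
include h

theorem fus (nt : ∃ s ∈ X, π s ≠ 1) (hA : Mx X A) (hx : Te x) (xA : x ∈ 𝐍(A)) (hg : g * x * g⁻¹ ∈ 𝐍(A)) :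
    ∃ n ∈ 𝐍(A), n * x * n⁻¹ * (g * x * g⁻¹)⁻¹ ∈ A := by
  obtain ⟨⟨k, e, hk⟩, -⟩ := h.all nt (hA.cj h.cs g) hA (hx.conj g) (cj_normalizer g A ▸ conj_mem_cj xA) hg
  refine ⟨k * g, cj_eq_self_iff.1 (by rw [cj_mul, e]), ?_⟩
  convert hk using 2; group

theorem le_sup (nt : ∃ s ∈ X, π s ≠ 1) (hc : closure X = ⊤) (hT : IsSylowIn 2 T ⊤) :
    T ≤ h.cs.sub hT.pgrp ⊔ 𝐂(h.cs.sub hT.pgrp) := by
  have hA := mx_sub h.cs hT
  have hm : ∀ x ∈ X, x ∈ T → x ∈ h.cs.sub hT.pgrp := fun x a b => ⟨a, b⟩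
  have hn := le_normalizer.trans (h.cs.norm_sub hT.pgrp)
  generalize h.cs.sub hT.pgrp = A at *
  have fu := fun t (ht : t ∈ T) g (hg : g * t * g⁻¹ ∈ T) => h.fus nt hA (.of_mem hT.pgrp ht) (hn ht) (hn hg)
  obtain ⟨u, uA, hu, Au, Tu⟩ := h.exists_u hA hT.pgrp hn nt
  by_cases h1 : ∃ w ∈ A, w * w = z ∧ A ≤ Cz π w ∧ u * w ≠ w * u
  · obtain ⟨w, wA, hw, Aw, hne⟩ := h1
    have hi := h.inf_eq hA uA wA hu hw Aw hne
    rw [inf_eq_left.2 Au] at hi
    have hv := fun c => h.mem_Vv (c := c) hA uA wA hu hw Aw hne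
    have h2 : ∀ g ∈ Cz π u ⊓ Cz π w, ∀ a ∈ A, g ∈ Cz π a := fun g hg a ha =>
      mem_Cz.2 ((centralizer_four _ _).ge (show π g ∈ _ from hg) _ (hi.le ha)).symm
    have h3 : 𝐍(A) ≤ 𝐍(Cz π u ⊓ Cz π w) := fun n hn => mem_normalizer_fintype fun g hg =>
      ⟨cj_le_Cz (zpowers_le.2 (h2 g hg _ (inv_conj_mem_of_mem_normalizer hn uA))) (by simp [mul_assoc])
        (conj_mem_cj (mem_zpowers g)), cj_le_Cz (zpowers_le.2 (h2 g hg _ (inv_conj_mem_of_mem_normalizer hn wA)))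
        (by simp [mul_assoc]) (conj_mem_cj (mem_zpowers g))⟩
    have h4 : ∀ t ∈ T, t ∉ Cz π w → π (t * w * t⁻¹) = π u * π w := fun t ht h0 => by
      rcases (hv _).1 (hi.le (conj_mem_of_mem_normalizer (hn ht) wA)) with e | e | e | e
      · exact absurd (by simpa using e) (conj_ne_one (h.ne_one hw) (π t))
      · rw [← Cz_conj (Tu ht)] at e
        exact absurd (h.comm_of_eq (show π w = π u by simpa using e) rfl) hne
      · exact absurd (mem_Cz.2 (by simpa [mul_inv_eq_iff_eq_mul] using e)) h0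
      · exact e
    have h5 : T ≤ Cz π u ⊓ Cz π w := foc h.cs hc hT (fun x a b => ⟨Au (hm x a b), Aw (hm x a b)⟩) fun t ht g hg => by
      obtain ⟨n, n1, n2⟩ := fu t ht g hg
      have e : t ∈ Cz π u ⊓ Cz π w ↔ g * t * g⁻¹ ∈ Cz π u ⊓ Cz π w := by
        rw [mem_normalizer_iff.1 (h3 n1) t, ← inv_mem_iff (x := g * t * g⁻¹)]
        exact ⟨fun a => (mul_mem_cancel_left a).1 (le_inf Au Aw n2),
          fun a => (mul_mem_cancel_right a).1 (le_inf Au Aw n2)⟩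
      by_cases h0 : t ∈ Cz π u ⊓ Cz π w
      · exact mul_mem (inv_mem h0) (e.1 h0)
      refine ⟨Tu (mul_mem (inv_mem ht) hg), mem_Cz.2 ?_⟩
      have := (h4 t ht fun a => h0 ⟨Tu ht, a⟩).trans (h4 _ hg fun a => h0 (e.2 ⟨Tu hg, a⟩)).symm
      generalize g * t * g⁻¹ = y at *
      simp only [map_mul, map_inv] at this ⊢
      calc _ = (π t)⁻¹ * (π y * π w * (π y)⁻¹) * π y := by group
        _ = _ := by rw [← this]; group
    have h6 : ∀ t ∈ cz u, t ∈ cz w → t ∈ A ⊔ 𝐂(A) := fun t a b => mem_sup_right fun c hc => by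
      rcases (hv c).1 (hi.le hc) with e | e | e | e
      · exact (h.comm_of_eq (e.trans π.map_one.symm) (by simp)).symm
      · exact (h.comm_of_eq e (mem_cz.1 a)).symm
      · exact (h.comm_of_eq e (mem_cz.1 b)).symm
      · exact (h.comm_of_eq (e.trans (map_mul π u w).symm) (mem_cz.1 (cz_inf_le_cz_mul u w ⟨a, b⟩))).symm
    have h7 : ∀ t ∈ cz u, t ∈ Cz π w → t ∈ A ⊔ 𝐂(A) := fun t a b => by
      by_cases e : t ∈ cz w
      · exact h6 t a e
      · exact (mul_mem_cancel_left (mem_sup_left uA)).1 (h6 _ (mul_mem (self_mem_cz u) a)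
          (h.mul_mem_cz (Aw uA) (fun e => hne (mem_cz.1 e)) b e))
    intro t ht
    by_cases e : t ∈ cz u
    · exact h7 t e (h5 ht).2
    · exact (mul_mem_cancel_left (mem_sup_left wA)).1 (h7 _
        (h.mul_mem_cz (Au wA) (fun e => hne (mem_cz.1 e).symm) (h5 ht).1 e) (mul_mem (Aw wA) (h5 ht).2))
  push Not at h1
  have h2 : 𝐍(A) ≤ Cz π u := fun n hn => by
    have a := conj_mem_of_mem_normalizer hn uA
    have b : n * u * n⁻¹ * (n * u * n⁻¹) = z := by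
      rw [show n * u * n⁻¹ * (n * u * n⁻¹) = n * (u * u) * n⁻¹ by group, hu, h.cen, mul_inv_cancel_right]
    have := h.eq_of_comm hA uA a hu b (h1 _ a b (cj_eq_of_mem_normalizer hn ▸ cj_le_Cz Au rfl))
    rw [map_mul, map_mul, map_inv, eq_mul_inv_iff_mul_eq] at this
    exact mem_Cz.2 this.symm
  refine le_of_comm hn (le_normalizer_sup le_rfl (normalizer_le_normalizer_centralizer A)) (fun n hn => ?_)
    (foc h.cs hc hT (fun x a b => mem_sup_left ⟨mem_sup_left (hm x a b), hn b⟩) fun t ht g hg => ?_)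
  · obtain ⟨k, hk⟩ := pow_cent_cyc hA.two.to_inf_left (h.cyc hA uA hu)
      (le_normalizer_inf le_rfl (h2.trans h.norm_cz) hn)
    obtain ⟨j, hj⟩ := IsPGroup.iff_card.1 hA.two
    refine ⟨k + j, mem_sup_right fun a ha => ?_⟩
    have h3 := pow_mem hn (2 ^ k)
    rw [pow_add, pow_mul]
    generalize n ^ 2 ^ k = m at *
    have h4 : m * a * m⁻¹ * a⁻¹ ∈ A ⊓ cz u := mem_inf.2 ⟨mul_mem (conj_mem_of_mem_normalizer h3 ha) (inv_mem ha), by
      by_cases e : a ∈ cz u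
      · exact mul_mem (conj_mem_of_mem_normalizer (h.norm_cz (h2 h3)) e) (inv_mem e)
      · exact h.mul_mem_cz (Au (conj_mem_of_mem_normalizer h3 ha))
          (fun e' => e ((mem_normalizer_iff.1 (h.norm_cz (h2 h3)) a).2 e')) (Au (inv_mem ha))
          fun e' => e (inv_mem_iff.1 e')⟩
    have h5 := conj_pow_eq (hk _ h4).symm (inv_mul_cancel_right _ a).symm (2 ^ j)
    have h6 : (m * a * m⁻¹ * a⁻¹) ^ 2 ^ j = 1 := hj ▸ congrArg Subtype.val (pow_card_eq_one' (x := (⟨_, h4.1⟩ : A)))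
    rw [h6, one_mul, mul_inv_eq_iff_eq_mul] at h5
    exact h5.symm
  · obtain ⟨n, n1, n2⟩ := fu t ht g hg
    have a := inv_conj_mem_of_mem_normalizer (hn ht) (inv_mem n2)
    rw [show t⁻¹ * (g * t * g⁻¹) = t⁻¹ * (n * t * n⁻¹ * (g * t * g⁻¹)⁻¹)⁻¹ * t * ⁅t⁻¹, n⁆ by
      rw [commutatorElement_def]; group]
    exact mul_mem (mem_sup_left ⟨mem_sup_left a, le_normalizer a⟩)
      (mem_sup_right (commutator_mem_commutator (inv_mem ht) n1))

theorem full (hc : closure X = ⊤) (hO : pPrimeCore 2 G = ⊥) (hx : Te x) : x ∈ X := by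
  by_cases nt : ∃ s ∈ X, π s ≠ 1
  swap
  · push Not at nt
    exact h.cs.zp h.zX ((closure_le _).2 (fun s hs => (mem_zpowers_two h.z2).2 ((h.ker s).1 (nt s hs)))
      (hc ▸ mem_top x))
  by_cases h1 : ∃ D, Mx X D ∧ ∃ u ∈ D, u * u = z ∧ D ≤ cz u
  · obtain ⟨D, hD, u, uD, hu, e⟩ := h1
    have := h.cyc hD uD hu
    rw [inf_eq_left.2 e] at this
    obtain ⟨c, hc'⟩ := this.exists_generator
    have h2 := Ch.two G X X ⟨h.cs, h.cs, subset_rfl, fun P hP => ?_, fun _ _ _ a _ _ _ _ => Or.inl a⟩ hO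
    · exact hD.sub x ((closure_le _).2 (fun y hy => hD.max _ h2 (hc ▸ le_top) y hy (subset_closure hy))
        (hc ▸ mem_top x))
    obtain ⟨m, -, e⟩ := hD.exists_in h.cs le_top hP le_top
    refine ⟨m * c * m⁻¹, fun y hy a => ?_⟩
    rw [← cj_zpowers, mem_cj]
    obtain ⟨k, hk⟩ := hc' ⟨_, mem_cj.1 ((hD.cj h.cs m).mem h.cs hy (e a))⟩
    exact ⟨k, (congrArg Subtype.val hk :)⟩
  push Not at h1
  set Y : Set G := {c | Te c ∧ ∃ A, Mx X A ∧ c ∈ 𝐂(A)}
  have h2 : ∀ c ∈ Y, ∀ D, Mx X D → c ∈ 𝐍(D) → c ∈ 𝐂(D) := fun c ⟨c2, A, hA, e⟩ D hD cD =>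
    (h.all nt hA hD c2 (centralizer_le_normalizer _ e) cD).2.1 e
  have hY : CS Y := ⟨⟨.of_mem IsPGroup.of_bot (one_mem _), let ⟨A, hA, _⟩ := exists_mx h.cs IsPGroup.of_bot
      ⟨A, hA, one_mem _⟩⟩, fun c ⟨c2, A, hA, e⟩ g => ⟨c2.conj g, _, hA.cj h.cs g, cj_centralizer g A ▸ conj_mem_cj e⟩,
    fun c hc => hc.1, fun P hP a ha b hb aP bP => let ⟨D, hD, e⟩ := exists_mx h.cs hP
      ⟨.of_mem hP (mul_mem aP bP), D, hD, mul_mem (h2 a ha D hD (e aP)) (h2 b hb D hD (e bP))⟩⟩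
  have h3 := pair_main G X Y ⟨h.cs, hY, fun P hP a ha b hb aP bP => let ⟨D, hD, e⟩ := exists_mx h.cs hP
    h2 b hb D hD (e bP) a (hD.mem h.cs ha (e aP))⟩
  have h4 : closure (X ∩ Y) ≤ π.ker := (closure_le _).2 fun a ha => by_contra fun a1 => by
    obtain ⟨D, hD, e⟩ := exists_mx h.cs ha.2.1
    obtain ⟨y, hy, y2⟩ := h.exists_pow ha.1 a1
    exact h1 D hD y (zpowers_le.2 (hD.mem h.cs ha.1 (e (mem_zpowers a))) hy) y2
      (le_cz_iff.2 (zpowers_le.2 (h2 a ha.2 D hD (e (mem_zpowers a))) hy))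
  rw [hO, sup_bot_eq, hc] at h3
  obtain ⟨T, hT⟩ := exists_isSylowIn 2 (⊤ : Subgroup G)
  have hA := mx_sub h.cs hT
  refine fin h.cs hc hT (fun t ht => ?_) hx
  obtain ⟨s, hs, c, hc, rfl⟩ := (mem_sup_iff_of_le_normalizer (le_normalizer.trans
    (normalizer_le_normalizer_centralizer _))).1 (h.le_sup nt hc hT ht)
  refine ⟨s, hs.1, hs.2, fun g => h.mem_of_eq (h.z_mem hA) (one_mem _) ?_⟩
  rw [inv_mul_cancel_left, map_one]
  exact h4 (h3 (commutator_mem_commutator (mem_top g) (subset_closure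
    ⟨.of_mem hT.pgrp ((mul_mem_cancel_left hs.2).1 ht), _, hA, hc⟩)))

end QS

theorem rank_one (hX : CS X) (hu : ∀ x ∈ X, ∀ y ∈ X, x ≠ 1 → y ≠ 1 → x * x = 1 → y * y = 1 → x * y = y * x → x = y)
    (hx : x ∈ closure X) (h2 : Te x) : x ∈ X := by
  have hX1 := hX.comap (closure X).subtype_injective
  have hk := odd_core (G := closure X)
  set f := QuotientGroup.mk' (pPrimeCore 2 (closure X))
  have hf : Function.Surjective f := QuotientGroup.mk'_surjective _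
  have hX2 := hX1.image hf
  have hc := closure_red X hf
  have h0 := Core.pPrimeCore_quotient_pPrimeCore (G := closure X) 2
  have h3 : Te (⟨x, hx⟩ : closure X) :=
    (h2.comap_of_injective _ (closure X).subtype_injective).to_le (zpowers_le.2 (mem_zpowers x))
  refine (mem_of_odd hX1 hk h3 ?_ :)
  have h4 : ∀ P : Subgroup _, IsPGroup 2 P → ∀ a ∈ f '' ((closure X).subtype ⁻¹' X),
      ∀ b ∈ f '' ((closure X).subtype ⁻¹' X), a ∈ P → b ∈ P → a ≠ 1 → b ≠ 1 → a * a = 1 → b * b = 1 →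
      a * b = b * a → a = b := by
    rintro Q hQ _ ⟨a, ha, rfl⟩ _ ⟨b, hb, rfl⟩ aQ bQ a1 b1 a2 b2 e
    obtain ⟨P, hP, hP'⟩ := exists_lift f hQ
    obtain ⟨g, g1, g2⟩ := hP' a (hX1.two a ha) aQ
    obtain ⟨k, k1, k2⟩ := hP' b (hX1.two b hb) bQ
    rw [← g2] at a1 a2 e ⊢
    rw [← k2] at b1 b2 e ⊢
    clear g2 k2
    replace ha := hX1.conj a ha g
    replace hb := hX1.conj b hb k
    generalize g * a * g⁻¹ = a, k * b * k⁻¹ = b at *
    exact congrArg f (Subtype.ext (hu _ ha _ hb (fun e => a1 (by rw [show a = 1 from Subtype.ext e, map_one]))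
      (fun e => b1 (by rw [show b = 1 from Subtype.ext e, map_one]))
      (congrArg Subtype.val (eq_of_odd hk hP (mul_mem g1 g1) (one_mem _) (by rw [map_mul, a2, map_one])))
      (congrArg Subtype.val (eq_of_odd hk hP (mul_mem k1 k1) (one_mem _) (by rw [map_mul, b2, map_one])))
      (congrArg Subtype.val (eq_of_odd hk hP (mul_mem g1 k1) (mul_mem k1 g1) (by rw [map_mul, e, map_mul])))))
  have h5 := Te.map h3 f
  generalize f '' ((closure X).subtype ⁻¹' X) = Y, f ⟨x, hx⟩ = y at *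
  by_cases h1 : ∀ y ∈ Y, y = 1
  · rw [closure_eq_bot_iff.2 h1] at hc
    rw [mem_bot.1 (hc.ge (mem_top y))]
    exact hX2.one
  push Not at h1
  obtain ⟨a, ha, a1⟩ := h1
  obtain ⟨z, hz, -, z1, z2⟩ := hX2.exists_inv ha a1
  have h6 : ∀ b ∈ Y, b ≠ 1 → b * b = 1 → b * z = z * b → b = z := fun b hb b1 b2 e =>
    h4 _ (Te.sup (pgroup_zp b2) (pgroup_zp z2) (cz_le_normalizer_zpowers z (mem_cz.2 e))) b hb z hz
      (mem_sup_right (mem_zpowers b)) (mem_sup_left (mem_zpowers z)) b1 z1 b2 z2 e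
  have h7 := Block.zstar_center ⟨two_of_sq z2 z1, fun g e =>
    h6 _ (hX2.conj z hz g) (conj_ne_one z1 g) (conj_sq z2 g) e.symm.eq⟩ h0
  haveI : (zpowers z).Normal := ⟨fun a ha g => by
    rwa [mem_center_iff.1 (zpowers_le.2 h7 ha) g, mul_inv_cancel_right]⟩
  exact QS.full (π := QuotientGroup.mk' (zpowers z)) ⟨hX2, z1, z2, hz, mem_center_iff.1 h7, fun b hb b2 =>
    or_iff_not_imp_left.2 fun b1 => h6 b hb b1 b2 (mem_center_iff.1 h7 b), fun b =>
    (QuotientGroup.eq_one_iff b).trans (mem_zpowers_two z2)⟩ hc h0 h5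

end Cfsg.Agent.Hq
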