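import Mathlib
import Cfsg.Agent.Hq.C
import Cfsg.Agent.Hq.D

/-! Strong embedding from a strongly closed 2-subgroup. -/

set_option autoImplicit false
set_option linter.unusedSectionVars false
set_option linter.style.haveILetI false

namespace Cfsg.Agent.Hq

open Subgroup Cfsg.Agent.GW Cfsg.Agent.LocalEven Cfsg.Agent.BG Cfsg.Agent.Gs Cfsg.Agent.Gp
open scoped commutatorElement

universe u

variable {G : Type u} [Group G] [Finite G] {S H : Subgroup G} {T : Sylow 2 G}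

local instance fact2E : Fact (Nat.Prime 2) := ⟨Nat.prime_two⟩

theorem mx_cls (h : IsStronglyClosed S (T : Subgroup G)) : Mx (cls S) S := by
  have := mx_sub (cs_cls T h) (isSylowIn_top T)
  rwa [show (cs_cls T h).sub (isSylowIn_top T).pgrp = S from le_antisymm (fun x hx => mem_of_cls h hx.1 hx.2)
    fun x hx => ⟨⟨x, hx, 1, by simp⟩, h.1 hx⟩] at this

theorem mem_of_conj (h : IsStronglyClosed S (T : Subgroup G)) (hS : S ≠ ⊥) (hC : ∀ s ∈ S, s ≠ 1 → cz s ≤ H)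
    (hN : 𝐍(S) ≤ H) {x g : G} (hx : x ∈ S) (x1 : x ≠ 1) (hg : g * x * g⁻¹ ∈ H) : g ∈ H := by
  have hX := cs_cls T h
  have hM := mx_cls h
  have k : ∀ x ∈ S, x ≠ 1 → ∀ g, g * x * g⁻¹ ∈ H → ∃ m ∈ H, cz (m * g * x * (m * g)⁻¹) ≤ H := fun x hx x1 g hg => by
    obtain ⟨m, hm, e⟩ := hM.exists_in hX (le_normalizer.trans hN) (hX.two _ ⟨x, hx, g, rfl⟩) (zpowers_le.2 hg)
    refine ⟨m⁻¹, inv_mem hm, hC _ ?_ (conj_ne_one x1 _)⟩
    simpa [mul_assoc] using mem_cj.1 ((hM.cj hX m).mem hX ⟨x, hx, g, rfl⟩ (e (mem_zpowers _)))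
  obtain ⟨z, hz, zc, z2⟩ := exists_mem_inf_centralizer hM.two hM.two le_normalizer hS
  obtain ⟨m, hm, e⟩ := k x hx x1 g hg
  obtain ⟨n, hn, e'⟩ := k z hz (ne_one_of_orderOf_eq z2) (m * g)
    (e (cj_cz (m * g) x ▸ conj_mem_cj (mem_cz.2 (zc x hx).symm)))
  have hD := hM.cj hX (n * (m * g))
  obtain ⟨l, hl, e''⟩ := hM.exists_in hX (le_normalizer.trans hN) hD.two
    ((cj_cz _ z ▸ cj_mono _ (le_cz_iff.2 zc)).trans e')
  have := hN (mem_normalizer_of_cj_le (g := l⁻¹ * (n * (m * g))) (by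
    rw [cj_mul, ← le_cj_iff]
    exact fun a ha => (hM.cj hX l).mem hX (hD.sub a ha) (e'' ha)))
  rwa [mul_mem_cancel_left (inv_mem hl), mul_mem_cancel_left hn, mul_mem_cancel_left hm] at this

theorem main (h : IsStronglyClosed S (T : Subgroup G)) (hS : S ≠ ⊥) (hH : H ≠ ⊤) (hC : ∀ s ∈ S, s ≠ 1 → cz s ≤ H)
    (hN : 𝐍(S) ≤ H) : (∀ t ∈ normalClosure (S : Set G), t * t = 1 → t ∈ cls S) ∧
      (S = (T : Subgroup G) ⊓ normalClosure (S : Set G) ∨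
        S = omegaOne 2 ((T : Subgroup G) ⊓ normalClosure (S : Set G))) ∧
      (PRankLE 2 1 S → S = (T : Subgroup G) ⊓ normalClosure (S : Set G)) := by
  have hX := cs_cls T h
  have hM := mx_cls h
  rw [← closure_cls]
  have h1 : (∀ x ∈ closure (cls S), Te x → x ∈ cls S) → S = (T : Subgroup G) ⊓ closure (cls S) := fun a =>
    le_antisymm (fun x hx => ⟨h.1 hx, subset_closure (hM.sub x hx)⟩) fun x hx =>
      mem_of_cls h (a x hx.2 (.of_mem T.2 hx.1)) hx.1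
  by_cases hu : ∀ x ∈ cls S, ∀ y ∈ cls S, x ≠ 1 → y ≠ 1 → x * x = 1 → y * y = 1 → x * y = y * x → x = y
  · have h2 := fun x hx => rank_one (x := x) hX hu hx
    exact ⟨fun t ht t2 => h2 t ht (pgroup_zp t2), Or.inl (h1 h2), fun _ => h1 h2⟩
  push Not at hu
  obtain ⟨x, hx, y, hy, x1, y1, x2, y2, hc, hne⟩ := hu
  have e : Asc.ZR S = ZI (cls S) := Set.ext fun x =>
    ⟨fun ⟨a, b, g, c⟩ => ⟨⟨_, c, g, by group⟩, a, b⟩, fun ⟨⟨s, hs, g, c⟩, a, b⟩ => ⟨a, b, g, by simpa [← c, mul_assoc]⟩⟩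
  obtain ⟨z, hz, z2⟩ := exists_mem_orderOf_eq_of_ne_bot hM.two hS
  obtain ⟨h2, h3⟩ := rank_two hX (e ▸ Asc.zs_quot hH (le_normalizer.trans hN) (Inv.even_card_of_two_mem hz z2)
    (fun x hx x1 _ g => mem_of_conj h hS hC hN hx x1) fun x hx y hy _ _ k _ c => by
      obtain ⟨s, hs, g, c⟩ := hX.mul_of_comm (hM.sub x hx) ⟨y, hy, k, rfl⟩ (mem_cz.2 c.symm)
      exact ⟨g, by rw [← c]; simpa [mul_assoc]⟩) ⟨x, ⟨hx, x1, x2⟩, y, ⟨hy, y1, y2⟩, trivial, trivial, hne, hc⟩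
  refine ⟨h2, h3.symm.imp h1 fun a => ?_, fun hr => ?_⟩
  · unfold omegaOne
    refine le_antisymm (fun x hx => ?_)
      ((closure_le _).2 fun x hx => mem_of_cls h (h2 x hx.1.2 (by rw [← pow_two]; exact hx.2)) hx.1.1)
    apply Subgroup.subset_closure
    exact ⟨⟨h.1 hx, Subgroup.subset_closure (hM.sub x hx)⟩, by rw [pow_two, a x (hM.sub x hx)]⟩
  have h4 := hX.f4 hx hy (two_of_sq x2 x1) ⟨two_of_sq y2 y1, hc.symm, hne.symm⟩
  obtain ⟨g, -, hg⟩ := (isSylowIn_top T).exists_cj_le (pgroup_of_sq h4.sq) le_top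
  have h5 := h4.cj hX g
  have := hr ((cj g (four x y)).subgroupOf S) ⟨⟨fun a b => Subtype.ext (Subtype.ext (Gs.comm_of_sq h5.sq a.2 b.2))⟩⟩
    fun a ha => Subtype.ext (by simpa [pow_two] using h5.sq a ha)
  rw [card_subgroupOf fun a ha => mem_of_cls h (h5.sub a ha) (hg ha), h5.card] at this
  omega

theorem se_of_inv (h : IsStronglyClosed S (T : Subgroup G)) (hS : S ≠ ⊥) (hH : H ≠ ⊤)
    (hC : ∀ s ∈ S, s ≠ 1 → cz s ≤ H) (hN : 𝐍(S) ≤ H) {K : Subgroup G} [hK : K.Normal] (hle : S ≤ K)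
    (hi : ∀ t ∈ K, t * t = 1 → t ∈ cls S) : IsStronglyEmbedded (H.subgroupOf K) := by
  obtain ⟨z, hz, z2⟩ := exists_mem_orderOf_eq_of_ne_bot (mx_cls h).two hS
  refine Inv.se_of (fun e => hH (eq_top_iff.2 fun g _ => mem_of_conj h hS hC hN hz (ne_one_of_orderOf_eq z2)
    (subgroupOf_eq_top.1 e (hK.conj_mem z (hle hz) g)))) (s := ⟨z, hle hz⟩) (hN (le_normalizer hz))
    (by rw [← orderOf_coe, z2]) fun t ht t2 g hg => ?_
  obtain ⟨a, ha, k, e⟩ := hi t t.2 (congrArg Subtype.val (sq_of_two t2))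
  have a1 : a ≠ 1 := fun c => ne_one_of_orderOf_eq t2 (Subtype.ext (by simp [← e, c]))
  refine ((mul_mem_cancel_right (mem_of_conj h hS hC hN ha a1 (g := k) (by rw [e]; exact ht))).1
    (mem_of_conj h hS hC hN ha a1 (g := g * k) ?_) :)
  rw [show g * k * a * (g * k : G)⁻¹ = g * (k * a * k⁻¹) * (g : G)⁻¹ by group, e]
  exact hg

theorem tight {Q : Subgroup G} (he : Even (Nat.card Q)) (hn : ¬ Q.Normal)
    (hodd : ∀ g : G, g ∉ 𝐍(Q) → Odd (Nat.card ↥(cj g Q ⊓ 𝐍(Q)))) :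
    IsStronglyEmbedded (𝐍(Q).subgroupOf (normalClosure (Q : Set G))) := by
  have h1 : ∀ x ∈ Q, Te x → x ≠ 1 → ∀ g, g * x * g⁻¹ ∈ 𝐍(Q) → g ∈ 𝐍(Q) := fun x hx x2 x1 g hg => by_contra fun c =>
    conj_ne_one x1 g (eq_one_of_odd_of_two (x2.conj g) (mem_zpowers _) (odd_orderOf (hodd g c) ⟨conj_mem_cj hx, hg⟩))
  obtain ⟨z, hz, z1, z2⟩ := RankOne.exists_involution_mem he
  obtain ⟨P, hP, hz'⟩ := exists_isSylowIn_le (pgroup_zp z2) (zpowers_le.2 (le_normalizer hz))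
  have hS := hP.inf_of_le_normalizer le_normalizer le_rfl
  have zS : z ∈ P ⊓ Q := ⟨hz' (mem_zpowers z), hz⟩
  have hS0 : P ⊓ Q ≠ ⊥ := fun e => z1 (mem_bot.1 (e ▸ zS))
  have hN : 𝐍(P ⊓ Q) ≤ 𝐍(Q) := fun g hg => h1 z hz (pgroup_zp z2) z1 g
    (le_normalizer (conj_mem_of_mem_normalizer hg zS).2)
  obtain ⟨T, hT⟩ := (show IsSylowIn 2 P ⊤ from IsSylowIn.of_normalizer (by
    rw [top_inf_eq]
    exact hP.mono le_normalizer fun g hg => h1 z hz (pgroup_zp z2) z1 g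
      (hP.le (conj_mem_of_mem_normalizer hg zS.1)))).exists_sylow_top
  have h : IsStronglyClosed (P ⊓ Q) (T : Subgroup G) := hT.symm ▸ ⟨inf_le_left, fun x hx g hg => ⟨hg, by
    by_cases x1 : x = 1
    · simp [x1]
    · exact conj_mem_of_mem_normalizer (h1 x hx.2 (.of_mem hP.pgrp hx.1) x1 g (hP.le hg)) hx.2⟩⟩
  have hH : 𝐍(Q) ≠ ⊤ := fun e => hn (normalizer_eq_top_iff.1 e)
  have hC : ∀ s ∈ P ⊓ Q, s ≠ 1 → cz s ≤ 𝐍(Q) := fun s hs s1 g hg => h1 s hs.2 (.of_mem hP.pgrp hs.1) s1 g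
    (by rw [conj_eq_of_mem_cz hg]; exact le_normalizer hs.2)
  refine se_of_inv h hS0 hH hC hN (inf_le_right.trans le_normalClosure) fun t ht t2 =>
    (main h hS0 hH hC hN).1 t ?_ t2
  set X := normalClosure ((P ⊓ Q : Subgroup G) : Set G)
  have h2 : normalClosure (Q : Set G) ≤ X ⊔ Q := (closure_le _).2 fun y hy => by
    obtain ⟨q, hq, c⟩ := Group.mem_conjugatesOfSet_iff.1 hy
    obtain ⟨g, rfl⟩ := isConj_iff.1 c
    obtain ⟨x, hx, n, hn, rfl⟩ := (sylow_inf_normal T X).frattini (le_normalizer_of_normal (mem_top g))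
    have h3 : n ∈ 𝐍(Q) := h1 z hz (pgroup_zp z2) z1 n
      (hP.le (hT ▸ (conj_mem_of_mem_normalizer hn ⟨hT ▸ zS.1, le_normalClosure zS⟩).1))
    rw [show x * n * q * (x * n)⁻¹ = x * (n * q * n⁻¹) * x⁻¹ by group]
    exact mul_mem (mul_mem (mem_sup_left hx) (mem_sup_right (conj_mem_of_mem_normalizer h3 hq)))
      (inv_mem (mem_sup_left hx))
  refine Asc.mem_of_sq_of_odd le_normalizer_of_normal ?_ (h2 ht) (t2 ▸ one_mem X)
  rw [relIndex_sup_left]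
  exact Nat.not_even_iff_odd.1 fun e => hS.not_dvd_of_le le_normalClosure e.two_dvd

end Cfsg.Agent.Hq
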